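import Mathlib.LinearAlgebra.QuadraticForm.Basic
import Mathlib.RingTheory.MvPolynomial.Homogeneous
import Mathlib.Algebra.MvPolynomial.PDeriv
import Mathlib.Tactic.Ring
import Mathlib.Tactic.LinearCombination

/-!
The quadratic form attached to a homogeneous polynomial of degree two, with its polar form in terms of
partial derivatives.
-/

set_option autoImplicit false

open QuadraticMap MvPolynomial

namespace Groth.Agent.Lefpen.H720.QuadPoly

variable {k : Type*} [CommRing k]

theorem exists_single_add_single {σ : Type*} (d : σ →₀ ℕ) (hd : d.degree = 2) :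
    ∃ i j : σ, d = Finsupp.single i 1 + Finsupp.single j 1 := by
  classical
  have h0 : d ≠ 0 := by
    rintro rfl
    simp at hd
  obtain ⟨i, hi⟩ := Finsupp.ne_iff.mp h0
  have hi' : Finsupp.single i 1 ≤ d := by
    rw [Finsupp.single_le_iff]
    exact Nat.one_le_iff_ne_zero.mpr hi
  obtain ⟨e, rfl⟩ := exists_add_of_le hi'
  have he : e.degree = 1 := by
    rw [map_add, Finsupp.degree_single] at hd
    omega
  have h1 : e ≠ 0 := by
    rintro rfl
    simp at he
  obtain ⟨j, hj⟩ := Finsupp.ne_iff.mp h1
  have hj' : Finsupp.single j 1 ≤ e := by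
    rw [Finsupp.single_le_iff]
    exact Nat.one_le_iff_ne_zero.mpr hj
  obtain ⟨f, rfl⟩ := exists_add_of_le hj'
  have hf : f.degree = 0 := by
    rw [map_add, Finsupp.degree_single] at he
    omega
  have hf0 : f = 0 := by simpa [Finsupp.degree_eq_zero_iff] using hf
  exact ⟨i, j, by rw [hf0, add_zero]⟩

variable {σ : Type*} [Fintype σ]

/-- The assertion that the polynomial `P` is given by a quadratic form, with polar form given by partial derivatives. -/
def HasQF (P : MvPolynomial σ k) : Prop :=
  ∃ q : QuadraticForm k (σ → k), (∀ v, q v = eval v P) ∧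
    ∀ v w, polar q v w = ∑ i, w i * eval v (pderiv i P)

omit [Fintype σ] in
theorem polar_sqmul (i j : σ) (c : k) (v w : σ → k) :
    polar (c • (QuadraticMap.proj i j : QuadraticMap k (σ → k) k)) v w =
      c * (v i * w j + w i * v j) := by
  simp only [polar, QuadraticMap.smul_apply, QuadraticMap.proj_apply, Pi.add_apply, smul_eq_mul]
  ring

theorem hasQF_monomial (i j : σ) (c : k) :
    HasQF (C c * (X i * X j) : MvPolynomial σ k) := by
  classical
  refine ⟨c • QuadraticMap.proj i j, fun v => ?_, fun v w => ?_⟩
  · simp [QuadraticMap.smul_apply, QuadraticMap.proj_apply]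
  · have h := polar_sqmul i j c v w
    refine Eq.trans ?_ (h.trans ?_)
    · rfl
    · have h2 : ∀ l, w l * eval v (pderiv l (C c * (X i * X j) : MvPolynomial σ k)) =
          (if l = j then c * (v i * w l) else 0) + (if l = i then c * (w l * v j) else 0) := by
        intro l
        rw [Derivation.leibniz, Derivation.leibniz, pderiv_C, pderiv_X, pderiv_X]
        simp only [Pi.single_apply, smul_eq_mul, map_add, map_mul, eval_X, eval_C, mul_zero, add_zero]
        rcases eq_or_ne l i with h1 | h1 <;> rcases eq_or_ne l j with h2 | h2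
        · subst h1; subst h2; simp; ring
        · subst h1; simp [h2, h2.symm]; ring
        · subst h2; simp [h1, h1.symm]; ring
        · simp [h1.symm, h2.symm, h1, h2]
      simp only [h2, Finset.sum_add_distrib, Finset.sum_ite_eq', Finset.mem_univ, if_true]
      ring

theorem HasQF.add {P P' : MvPolynomial σ k} (h : HasQF P) (h' : HasQF P') : HasQF (P + P') := by
  obtain ⟨q, h1, h2⟩ := h
  obtain ⟨q', h1', h2'⟩ := h'
  refine ⟨q + q', fun v => ?_, fun v w => ?_⟩
  · rw [QuadraticMap.add_apply, h1, h1', map_add]
  · have := polar_add (⇑q) (⇑q') v w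
    rw [QuadraticMap.coeFn_add, this, h2, h2', ← Finset.sum_add_distrib]
    refine Finset.sum_congr rfl fun i _ => ?_
    rw [map_add, map_add, mul_add]

theorem hasQF_zero : HasQF (0 : MvPolynomial σ k) :=
  ⟨0, fun v => by simp, fun v w => by simp [polar]⟩

theorem hasQF {P : MvPolynomial σ k} (hP : P.IsHomogeneous 2) : HasQF P := by
  classical
  rw [P.as_sum]
  refine Finset.sum_induction _ HasQF (fun _ _ => HasQF.add) hasQF_zero fun d hd => ?_
  have hdeg : d.degree = 2 := by
    rw [Finsupp.degree_eq_weight_one]
    exact hP (mem_support_iff.mp hd)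
  obtain ⟨i, j, rfl⟩ := exists_single_add_single d hdeg
  have : monomial (Finsupp.single i 1 + Finsupp.single j 1) (coeff (Finsupp.single i 1 + Finsupp.single j 1) P) =
      C (coeff (Finsupp.single i 1 + Finsupp.single j 1) P) * (X i * X j) := by
    rw [X, X, monomial_mul, C_mul_monomial, mul_one, mul_one]
  rw [this]
  exact hasQF_monomial i j _

end Groth.Agent.Lefpen.H720.QuadPoly
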