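import Mathlib.RingTheory.Smooth.StandardSmoothCotangent
import Mathlib.RingTheory.RingHom.StandardSmooth
import Mathlib.RingTheory.Kaehler.Basic
import Mathlib.LinearAlgebra.Dimension.Free
import Mathlib.LinearAlgebra.Dimension.Finrank

/-!
The space of derivations of a standard smooth algebra of relative dimension `n` into a field has dimension at most
`n`.
-/

set_option autoImplicit false
universe u

namespace Groth.Agent.Lefpen.H720.DerRank

theorem finrank_le {R C K : Type u} [CommRing R] [CommRing C] [Field K] (n : ℕ) (α : R →+* C)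
    (hα : α.IsStandardSmoothOfRelativeDimension n) (φ : C →+* K) {T : Type*} [AddCommGroup T] [Module K T]
    (D : T → C → K)
    (hadd : ∀ t a b, D t (a + b) = D t a + D t b)
    (hmul : ∀ t a b, D t (a * b) = φ a * D t b + φ b * D t a)
    (hα0 : ∀ t r, D t (α r) = 0) (hTadd : ∀ t t' c, D (t + t') c = D t c + D t' c)
    (hTsmul : ∀ (x : K) t c, D (x • t) c = x * D t c)
    (hinj : ∀ t, (∀ c, D t c = 0) → t = 0) : Module.finrank K T ≤ n := by
  classical
  let _ := α.toAlgebra
  let _ : Module C K := Module.compHom K φ
  let _ : Module R K := Module.compHom K (φ.comp α)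
  have hsC : ∀ (c : C) (x : K), c • x = φ c * x := fun c x => rfl
  have hsR : ∀ (r : R) (x : K), r • x = φ (α r) * x := fun r x => rfl
  have hsRC : ∀ (r : R) (c : C), r • c = α r * c := fun r c => rfl
  have : IsScalarTower R C K := ⟨fun r c x => by rw [hsC, hsRC, hsR, hsC, map_mul, mul_assoc]⟩
  have : Algebra.IsStandardSmoothOfRelativeDimension n R C := hα
  have : Nontrivial C := φ.domain_nontrivial
  have : Algebra.IsStandardSmooth R C :=
    Algebra.IsStandardSmoothOfRelativeDimension.isStandardSmooth n
  have hfree : Module.Free C (Ω[C⁄R]) := inferInstance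
  have hrank : Module.rank C (Ω[C⁄R]) = n :=
    Algebra.IsStandardSmoothOfRelativeDimension.rank_kaehlerDifferential n
  have hfin : Module.Finite C (Ω[C⁄R]) :=
    Module.finite_of_rank_eq_nat hrank
  have hfr : Module.finrank C (Ω[C⁄R]) = n := Module.finrank_eq_of_rank_eq hrank
  let b : Module.Basis (Fin n) C (Ω[C⁄R]) := Module.finBasisOfFinrankEq C (Ω[C⁄R]) hfr
  let Dm : T → Derivation R C K := fun t => Derivation.mk'
    { toFun := D t
      map_add' := hadd t
      map_smul' := fun r c => by
        rw [hsRC, hmul, hα0, mul_zero, add_zero]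
        rfl }
    (fun x y => hmul t x y)
  have hDm : ∀ t c, Dm t c = D t c := fun t c => rfl
  have hL : ∀ t c, (Dm t).liftKaehlerDifferential (KaehlerDifferential.D R C c) = D t c := by
    intro t c
    rw [Derivation.liftKaehlerDifferential_comp_D, hDm]
  have hspan : ∀ ω : Ω[C⁄R], ω ∈ Submodule.span C (Set.range (KaehlerDifferential.D R C)) := by
    intro ω
    rw [KaehlerDifferential.span_range_derivation]
    trivial
  have hlinadd : ∀ ω : Ω[C⁄R], ∀ t t', (Dm (t + t')).liftKaehlerDifferential ω =
      (Dm t).liftKaehlerDifferential ω + (Dm t').liftKaehlerDifferential ω := by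
    intro ω t t'
    induction hspan ω using Submodule.span_induction with
    | mem x hx =>
      obtain ⟨c, rfl⟩ := hx
      rw [hL, hL, hL, hTadd]
    | zero => simp
    | add x y _ _ hx hy => rw [map_add, map_add, map_add, hx, hy]; ring
    | smul c x _ hx => rw [map_smul, map_smul, map_smul, hx, hsC, hsC, hsC]; ring
  have hlinsmul : ∀ ω : Ω[C⁄R], ∀ (z : K) t, (Dm (z • t)).liftKaehlerDifferential ω =
      z * (Dm t).liftKaehlerDifferential ω := by
    intro ω z t
    induction hspan ω using Submodule.span_induction with
    | mem x hx =>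
      obtain ⟨c, rfl⟩ := hx
      rw [hL, hL, hTsmul]
    | zero => simp
    | add x y _ _ hx hy => rw [map_add, map_add, hx, hy]; ring
    | smul c x _ hx => rw [map_smul, map_smul, hx, hsC, hsC]; ring
  let L : T →ₗ[K] (Fin n → K) :=
    { toFun := fun t i => (Dm t).liftKaehlerDifferential (b i)
      map_add' := fun t t' => funext fun i => hlinadd (b i) t t'
      map_smul' := fun z t => funext fun i => hlinsmul (b i) z t }
  have hLinj : Function.Injective L := by
    rw [injective_iff_map_eq_zero]
    intro t ht
    apply hinj
    have h1 : (Dm t).liftKaehlerDifferential = 0 := b.ext fun i => congrFun ht i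
    intro c
    rw [← hL, h1, LinearMap.zero_apply]
  have := LinearMap.finrank_le_finrank_of_injective hLinj
  rwa [Module.finrank_fin_fun] at this

end Groth.Agent.Lefpen.H720.DerRank
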