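import Groth.Agent.Lefpen.H720.NoSingQ
import Groth.Agent.Lefpen.H720.DerRank
import Mathlib.RingTheory.MvPolynomial.EulerIdentity

/-!
# Jacobian criterion at a rational point of a smooth hypersurface, over any field

* `exists_pderiv_ne_zero`: if `V(G) ⊆ P^N` is smooth of relative dimension `n < N`, then at every rational point some
  partial derivative of `G` does not vanish.
-/

set_option autoImplicit false
universe u

open CategoryTheory AlgebraicGeometry Limits TopologicalSpace Opposite

namespace Groth.Agent.Lefpen.H720.TangentAny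

open LefPen Groth.Agent.Lefpen.H720.AffPt Groth.Agent.Sga5 Groth.Agent.Lefpen.H720.Tangent
open Groth.Agent.Lefpen.H720.HomPt

variable {N : ℕ} {k : Type u} [Field k] {d : ℕ}

/-- The ring `k ⊕ k^N` with square zero ideal `k^N`. -/
abbrev EU (N : ℕ) (k : Type u) [Field k] : Type u := TrivSqZeroExt k (Fin N → k)

/-- The universal first order deformation of the point `a` of affine space. -/
def dvU (a : Fin N → k) : Fin N → EU N k :=
  fun l => TrivSqZeroExt.inl (a l) + TrivSqZeroExt.inr (Pi.single l 1)

/-- The linear form attached to `w`. -/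
def lam (w : Fin N → k) : (Fin N → k) →ₗ[k] k := Fintype.linearCombination k w

theorem lam_apply (w m : Fin N → k) : lam w m = ∑ l, m l * w l := by
  simp [lam, Fintype.linearCombination_apply]

/-- Specialization of the universal tangent vector. -/
noncomputable def rho (w : Fin N → k) : EU N k →ₐ[k] E k := TrivSqZeroExt.map (lam w)

theorem rho_dvU (a w : Fin N → k) (l : Fin N) : rho w (dvU a l) = dv a w l := by
  rw [rho, dvU, map_add, TrivSqZeroExt.map_inl, TrivSqZeroExt.map_inr, dv, lam_apply]
  congr 2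
  simp [Pi.single_apply]

theorem eq_zero_of_map_rho (x : EU N k) (h : ∀ w, rho w x = 0) : x = 0 := by
  have h0 : x.fst = 0 := by
    have := congrArg TrivSqZeroExt.fst (h 0)
    simpa [rho] using this
  apply TrivSqZeroExt.ext h0
  funext l
  have := congrArg TrivSqZeroExt.snd (h (Pi.single l 1))
  simpa [rho, lam_apply, Pi.single_apply] using this

instance isLocalRing_EU : IsLocalRing (EU N k) := by
  refine IsLocalRing.of_isUnit_or_isUnit_one_sub_self fun x => ?_
  by_cases hx : x.fst = 0
  · right
    rw [TrivSqZeroExt.isUnit_iff_isUnit_fst]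
    simp [hx]
  · left
    rw [TrivSqZeroExt.isUnit_iff_isUnit_fst]
    exact isUnit_iff_ne_zero.mpr hx

theorem le_of_smooth (n : ℕ) (G : Form N k d)
    [hsm : SmoothOfRelativeDimension n ((hypIdeal G).subschemeι ≫ CohB1.ProjSpace.toSpec N k)]
    (j : Fin (N + 1)) (a : Fin N → k)
    (h : ∀ w : Fin N → k, MvPolynomial.aeval (dv a w) (ProjChart.dehom N k j G.1) = 0) : N ≤ n := by
  classical
  set f := (hypIdeal G).subschemeι ≫ CohB1.ProjSpace.toSpec N k with hf
  have hU0 : MvPolynomial.aeval (dvU a) (ProjChart.dehom N k j G.1) = 0 := by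
    apply eq_zero_of_map_rho
    intro w
    have h1 : (rho w).comp (MvPolynomial.aeval (dvU a)) = MvPolynomial.aeval (dv a w) := by
      apply MvPolynomial.algHom_ext
      intro l
      simp [rho_dvU]
    have h2 := congr($(h1) (ProjChart.dehom N k j G.1))
    rw [h w] at h2
    exact h2
  obtain ⟨τ, hτ⟩ := exists_lift_apt G j (dvU a) hU0
  let π : EU N k →ₐ[k] k := TrivSqZeroExt.fstHom k k (Fin N → k)
  have hloc : Spec.map (CommRingCat.ofHom π.toRingHom) (IsLocalRing.closedPoint k) =
      IsLocalRing.closedPoint (EU N k) := by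
    have : IsLocalHom π.toRingHom :=
      IsLocalHom.of_surjective _ (fun x => ⟨TrivSqZeroExt.inl x, by simp [π]⟩)
    exact IsLocalRing.comap_closedPoint π.toRingHom
  obtain ⟨U, hU, V, hV, hpt, e, hstd⟩ :=
    hsm.exists_isStandardSmoothOfRelativeDimension (τ (IsLocalRing.closedPoint (EU N k)))
  have hpre : (⊤ : (Spec (CommRingCat.of (EU N k))).Opens) ≤ τ ⁻¹ᵁ V := by
    have h1 : IsLocalRing.closedPoint (EU N k) ∈ τ ⁻¹ᵁ V := hpt
    have h2 := (IsLocalRing.closedPoint_mem_iff _).mp h1
    exact h2.ge
  let ψ : Γ((hypIdeal G).subscheme, V) →+* EU N k :=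
    (Scheme.ΓSpecIso (CommRingCat.of (EU N k))).hom.hom.comp (τ.appLE V ⊤ hpre).hom
  let φ : Γ((hypIdeal G).subscheme, V) →+* k := π.toRingHom.comp ψ
  have hφ : ∀ c, (ψ c).fst = φ c := fun c => rfl
  have hU' : U = ⊤ := by
    have h3 : IsLocalRing.closedPoint k ∈ U := by
      have h1 : f (τ (IsLocalRing.closedPoint (EU N k))) ∈ U := e hpt
      rwa [Subsingleton.elim (IsLocalRing.closedPoint k) (f (τ (IsLocalRing.closedPoint (EU N k))))]
    exact (IsLocalRing.closedPoint_mem_iff _).mp h3
  have hψα : ∀ r, (ψ ((f.appLE U V e).hom r)).snd = 0 := by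
    intro r
    have hτf : τ ≫ f = Spec.map (CommRingCat.ofHom (algebraMap k (EU N k))) := by
      rw [hf, ← Category.assoc, hτ, apt_toSpec]
    have h1 := Scheme.Hom.appLE_comp_appLE τ f U V ⊤ e hpre
    have h2 := congr((Scheme.ΓSpecIso (CommRingCat.of (EU N k))).hom.hom ($(h1).hom r))
    have h3 : ψ ((f.appLE U V e).hom r) = (Scheme.ΓSpecIso (CommRingCat.of (EU N k))).hom.hom
        (((f.appLE U V e) ≫ τ.appLE V ⊤ hpre).hom r) := rfl
    rw [h3, h2]
    have h4 : ⊤ ≤ (Spec.map (CommRingCat.ofHom (algebraMap k (EU N k))) ≫ 𝟙 _) ⁻¹ᵁ U := by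
      rw [hU']; exact le_top
    have h5 := comp_appLE_apply (algebraMap k (EU N k)) (𝟙 (Spec (CommRingCat.of k))) U
      (by rw [hU']; exact le_top) h4 r
    have h6 : (τ ≫ f).appLE U ⊤ (le_trans hpre (τ.preimage_mono e)) =
        (Spec.map (CommRingCat.ofHom (algebraMap k (EU N k))) ≫ 𝟙 _).appLE U ⊤ h4 := by
      congr 1
    rw [h6, h5]
    rfl
  have hfin := DerRank.finrank_le n (f.appLE U V e).hom hstd φ (T := Fin N → k)
    (fun w c => lam w (ψ c).snd) (fun w b c => by simp) (fun w b c => by
      rw [map_mul, TrivSqZeroExt.snd_mul, hφ, hφ]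
      simp) (fun w r => by rw [hψα, map_zero]) (fun w w' c => by
        simp [lam_apply, mul_add, Finset.sum_add_distrib]) (fun z w c => by
        simp only [lam_apply, Pi.smul_apply, smul_eq_mul, Finset.mul_sum]
        exact Finset.sum_congr rfl fun l _ => by ring) (by
      intro w hw
      -- the two specializations agree
      have h0 : ∀ w', ⊤ ≤ (Spec.map (CommRingCat.ofHom (rho w').toRingHom) ≫ τ) ⁻¹ᵁ V := by
        intro w' y _
        exact hpre (x := Spec.map (CommRingCat.ofHom (rho w').toRingHom) y) trivial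
      have h1 : Spec.map (CommRingCat.ofHom (rho w).toRingHom) ≫ τ =
          Spec.map (CommRingCat.ofHom (rho (0 : Fin N → k)).toRingHom) ≫ τ := by
        refine eq_of_appLE_eq _ _ V hV (h0 w) (h0 0) ?_
        ext c
        have h5 : Function.Injective (Scheme.ΓSpecIso (CommRingCat.of (E k))).hom.hom :=
          ((ConcreteCategory.isIso_iff_bijective (Scheme.ΓSpecIso (CommRingCat.of (E k))).hom).mp
            inferInstance).1
        apply h5
        rw [comp_appLE_apply (rho w).toRingHom τ V hpre, comp_appLE_apply (rho 0).toRingHom τ V hpre]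
        change rho w (ψ c) = rho 0 (ψ c)
        apply TrivSqZeroExt.ext
        · simp [rho]
        · have h6 := hw c
          simp only [rho, TrivSqZeroExt.snd_map]
          rw [h6]
          simp [lam_apply]
      have h2 : apt (k := k) j (dv a w) = apt (k := k) j (dv a 0) := by
        have e1 : (fun l => rho w (dvU a l)) = dv a w := funext fun l => rho_dvU a w l
        have e2 : (fun l => rho 0 (dvU a l)) = dv a 0 := funext fun l => rho_dvU a 0 l
        rw [← e1, ← e2, ← map_apt, ← map_apt, ← hτ, ← Category.assoc, ← Category.assoc, h1]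
      have h3 := apt_injective j h2
      funext l
      have h5 := congrArg TrivSqZeroExt.snd (congrFun h3 l)
      simpa [dv] using h5)
  rwa [Module.finrank_fin_fun] at hfin

/-- The Jacobian criterion at rational points. -/
theorem exists_pderiv_ne_zero (n : ℕ) (hn : n < N) (G : Form N k d)
    [hsm : SmoothOfRelativeDimension n ((hypIdeal G).subschemeι ≫ CohB1.ProjSpace.toSpec N k)]
    (v : Fin (N + 1) → k) (hv : v ≠ 0) (h0 : MvPolynomial.eval v G.1 = 0) :
    ∃ l, MvPolynomial.eval v (MvPolynomial.pderiv l G.1) ≠ 0 := by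
  classical
  by_contra hcon
  push Not at hcon
  obtain ⟨i, hi⟩ := Function.ne_iff.mp hv
  have hi : v i ≠ 0 := hi
  have hle := le_of_smooth n G i (aff i v) (by
    intro w
    rw [NoSingQ.aeval_dv_dehom i v hi w, NoSingQ.aeval_dual]
    have e1 : (fun l => (v i)⁻¹ * v l) = (v i)⁻¹ • v := by
      funext l; simp
    have e2 : ∀ {P : MvPolynomial (Fin (N + 1)) k} {m : ℕ}, P.IsHomogeneous m → MvPolynomial.eval v P = 0 →
        MvPolynomial.eval ((v i)⁻¹ • v) P = 0 := by
      intro P m hP h
      have h1 : MvPolynomial.eval ((v i)⁻¹ • v) P = ((v i)⁻¹) ^ m * MvPolynomial.eval v P := by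
        rw [MvPolynomial.eval_eq, MvPolynomial.eval_eq, Finset.mul_sum]
        refine Finset.sum_congr rfl fun s hs => ?_
        rw [hP.degree_eq_sum_deg_support hs]
        simp only [Pi.smul_apply, smul_eq_mul, mul_pow, Finset.prod_mul_distrib]
        rw [Finset.prod_pow_eq_pow_sum]
        ring
      rw [h1, h, mul_zero]
    have hG : G.1.IsHomogeneous d := G.2
    rw [e1, e2 hG h0]
    have e3 : ∀ l, MvPolynomial.eval ((v i)⁻¹ • v) (MvPolynomial.pderiv l G.1) = 0 := by
      intro l
      exact e2 (MvPolynomial.IsHomogeneous.pderiv hG) (hcon l)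
    simp [e3])
  omega

end Groth.Agent.Lefpen.H720.TangentAny
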