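import Groth.Agent.Lefpen.H705.ChartPoly
import Mathlib.AlgebraicGeometry.Morphisms.ClosedImmersion

/-!
# Points of projective space with affine coordinates in a `k`-algebra

* `apt j a : Spec A ⟶ P^N_k`, the point with affine coordinates `a` in the chart `D_+(T_j)`.
* `exists_lift_apt`: it factors through the hypersurface `V(G)` if `G` dehomogenized vanishes at `a`.
* `dehom_eq_zero`: the converse.
-/

set_option autoImplicit false
universe u

open CategoryTheory AlgebraicGeometry Limits TopologicalSpace Opposite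

namespace Groth.Agent.Lefpen.H720.AffPt

open LefPen Groth.Agent.Divis.IdealComap Groth.Agent.Fdesc.LocGen Groth.Agent.Lefpen.H705.HypIdeal
open Groth.Agent.Lefpen.H705.ChartPoly
open Groth.Agent.Sga5

variable {N : ℕ} {k : Type u} [Field k] {d : ℕ}

section general

variable {A : Type u} [CommRing A] [Algebra k A]

/-- The `A`-valued point of `P^N` with coordinates `a` in the chart `D_+(T_j)`. -/
noncomputable def apt (j : Fin (N + 1)) (a : Fin N → A) : Spec (CommRingCat.of A) ⟶ CohB1.ProjSpace N k :=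
  Spec.map (CommRingCat.ofHom (MvPolynomial.aeval a : MvPolynomial (Fin N) k →ₐ[k] A).toRingHom) ≫
    ProjSmooth.chart N k j

theorem apt_toSpec (j : Fin (N + 1)) (a : Fin N → A) :
    apt j a ≫ CohB1.ProjSpace.toSpec N k = Spec.map (CommRingCat.ofHom (algebraMap k A)) := by
  rw [apt, Category.assoc, ProjSmooth.chart_toSpec, ← Spec.map_comp, ← CommRingCat.ofHom_comp]
  congr 2
  ext c
  simp

theorem apt_injective (j : Fin (N + 1)) {a b : Fin N → A} (h : apt (k := k) j a = apt (k := k) j b) :
    a = b := by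
  rw [apt, apt, cancel_mono, Spec.map_inj] at h
  funext l
  have := congr($(h).hom (MvPolynomial.X l))
  simpa using this

theorem map_apt {B : Type u} [CommRing B] [Algebra k B] (f : A →ₐ[k] B) (j : Fin (N + 1)) (a : Fin N → A) :
    Spec.map (CommRingCat.ofHom f.toRingHom) ≫ apt (k := k) j a =
      apt (k := k) j (fun l => f (a l)) := by
  rw [apt, apt, ← Category.assoc, ← Spec.map_comp, ← CommRingCat.ofHom_comp]
  congr 3
  apply MvPolynomial.ringHom_ext
  · intro c; simp
  · intro l; simp

theorem top_le_preimage_apt (j : Fin (N + 1)) (a : Fin N → A) :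
    (⊤ : (Spec (CommRingCat.of A)).Opens) ≤ (apt (k := k) j a) ⁻¹ᵁ (LefPen.chart N k j) := by
  intro x _
  exact top_le_preimage (r := N) (k := k) j (x := _) trivial

/-- The value of a dehomogenized form. -/
theorem appLE_dehom (G : Form N k d) (j : Fin (N + 1)) (a : Fin N → A) :
    ((apt j a).appLE (LefPen.chart N k j) ⊤ (top_le_preimage_apt j a)).hom (LefPen.dehom G j) =
      (Scheme.ΓSpecIso (CommRingCat.of A)).inv.hom (MvPolynomial.aeval a (ProjChart.dehom N k j G.1)) := by
  have h1 := Scheme.Hom.appLE_comp_appLE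
    (Spec.map (CommRingCat.ofHom (MvPolynomial.aeval a : MvPolynomial (Fin N) k →ₐ[k] A).toRingHom))
    (ProjSmooth.chart N k j) (LefPen.chart N k j) ⊤ ⊤ (top_le_preimage j) le_top
  have h2 := congr($(h1).hom (LefPen.dehom G j))
  refine h2.symm.trans ?_
  rw [CommRingCat.hom_comp, RingHom.comp_apply, chart_appLE_dehom]
  have h3 := Scheme.ΓSpecIso_inv_naturality
    (CommRingCat.ofHom (MvPolynomial.aeval a : MvPolynomial (Fin N) k →ₐ[k] A).toRingHom)
  have h4 := congr($(h3).hom (ProjChart.dehom N k j G.1))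
  refine Eq.trans ?_ h4.symm
  rw [CommRingCat.hom_comp, RingHom.comp_apply]
  congr 1

/-- If the dehomogenized form vanishes, the point lies on the hypersurface. -/
theorem exists_lift_apt (G : Form N k d) (j : Fin (N + 1)) (a : Fin N → A)
    (h : MvPolynomial.aeval a (ProjChart.dehom N k j G.1) = 0) :
    ∃ g : Spec (CommRingCat.of A) ⟶ (hypIdeal G).subscheme, g ≫ (hypIdeal G).subschemeι = apt j a := by
  have hle : (hypIdeal G).subschemeι.ker ≤ (apt j a).ker := by
    rw [Scheme.IdealSheafData.ker_subschemeι, Scheme.Hom.ker, Scheme.IdealSheafData.le_ofIdeals_iff]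
    intro U s hs
    have hs' := Scheme.IdealSheafData.ideal_ofIdeals_le (hypFamily G) U hs
    have hs2 := (iInf_le _ j : hypFamily G U ≤ _) hs'
    rw [Ideal.mem_comap, Ideal.mem_span_singleton'] at hs2
    obtain ⟨b, hb⟩ := hs2
    rw [RingHom.mem_ker]
    set g := apt (k := k) j a with hg
    have e1 : g ⁻¹ᵁ U.1 ≤ g ⁻¹ᵁ (U.1 ⊓ LefPen.chart N k j) := by
      intro x hx
      exact ⟨hx, top_le_preimage_apt j a (x := x) trivial⟩
    have e2 : g ⁻¹ᵁ U.1 ≤ g ⁻¹ᵁ (LefPen.chart N k j) := fun x hx => (e1 hx).2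
    have h1 : (g.app U.1).hom s = (g.appLE (U.1 ⊓ LefPen.chart N k j) (g ⁻¹ᵁ U.1) e1).hom
        (((CohB1.ProjSpace N k).presheaf.map
          (homOfLE (inf_le_left : U.1 ⊓ LefPen.chart N k j ≤ U.1)).op).hom s) := by
      rw [← RingHom.comp_apply, ← CommRingCat.hom_comp, Scheme.Hom.map_appLE, Scheme.Hom.app_eq_appLE]
    have h2 : (g.appLE (U.1 ⊓ LefPen.chart N k j) (g ⁻¹ᵁ U.1) e1).hom
        (((CohB1.ProjSpace N k).presheaf.map
          (homOfLE (inf_le_right : U.1 ⊓ LefPen.chart N k j ≤ LefPen.chart N k j)).op).hom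
            (LefPen.dehom G j)) = 0 := by
      rw [← RingHom.comp_apply, ← CommRingCat.hom_comp, Scheme.Hom.map_appLE]
      have h3 : g.appLE (LefPen.chart N k j) (g ⁻¹ᵁ U.1) e2 =
          g.appLE (LefPen.chart N k j) ⊤ (top_le_preimage_apt j a) ≫
            (Spec (CommRingCat.of A)).presheaf.map (homOfLE le_top).op := by
        rw [Scheme.Hom.appLE_map]
      rw [h3, CommRingCat.hom_comp, RingHom.comp_apply, appLE_dehom, h, map_zero, map_zero]
    rw [h1, ← hb, map_mul, h2, mul_zero]
  exact ⟨IsClosedImmersion.lift _ _ hle, IsClosedImmersion.lift_fac _ _ hle⟩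

/-- A point of the hypersurface satisfies the equation. -/
theorem dehom_eq_zero (G : Form N k d) (j : Fin (N + 1)) (a : Fin N → A)
    (g : Spec (CommRingCat.of A) ⟶ (hypIdeal G).subscheme) (hg : g ≫ (hypIdeal G).subschemeι = apt j a) :
    MvPolynomial.aeval a (ProjChart.dehom N k j G.1) = 0 := by
  have h1 := appLE_dehom G j a
  let U : (CohB1.ProjSpace N k).affineOpens := ⟨LefPen.chart N k j, isAffineOpen_chart j⟩
  have h2 : LefPen.dehom G j ∈ (hypIdeal G).ideal U := by
    rw [hypIdeal_ideal_of_le G j U le_rfl, ores_refl]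
    exact Ideal.mem_span_singleton_self _
  rw [← Scheme.IdealSheafData.ker_subschemeι_app, RingHom.mem_ker] at h2
  have h3 : ((apt j a).appLE (LefPen.chart N k j) ⊤ (top_le_preimage_apt j a)).hom (LefPen.dehom G j) = 0 := by
    have e : (⊤ : (Spec (CommRingCat.of A)).Opens) ≤
        (g ≫ (hypIdeal G).subschemeι) ⁻¹ᵁ (LefPen.chart N k j) := by
      rw [hg]; exact top_le_preimage_apt j a
    have h4 : (apt j a).appLE (LefPen.chart N k j) ⊤ (top_le_preimage_apt j a) =
        (g ≫ (hypIdeal G).subschemeι).appLE (LefPen.chart N k j) ⊤ e := by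
      congr 1
      exact hg.symm
    rw [h4, Scheme.Hom.comp_appLE, CommRingCat.hom_comp, RingHom.comp_apply]
    exact (congrArg _ h2).trans (map_zero _)
  rw [h3] at h1
  have h5 : Function.Injective (Scheme.ΓSpecIso (CommRingCat.of A)).inv.hom :=
    ((ConcreteCategory.isIso_iff_bijective (Scheme.ΓSpecIso (CommRingCat.of A)).inv).mp inferInstance).1
  exact (h5 (h1.symm.trans (map_zero _).symm))

end general

/-- Every point with values in a field has affine coordinates in some chart. -/
theorem exists_eq_apt {K : Type u} [Field K] [Algebra k K] (g : Spec (CommRingCat.of K) ⟶ CohB1.ProjSpace N k)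
    (hg : g ≫ CohB1.ProjSpace.toSpec N k = Spec.map (CommRingCat.ofHom (algebraMap k K))) :
    ∃ (j : Fin (N + 1)) (a : Fin N → K), g = apt j a := by
  obtain ⟨j, hj⟩ := ProjSmooth.exists_mem_chart N k (g (IsLocalRing.closedPoint K))
  have hr : Set.range g ⊆ Set.range (ProjSmooth.chart N k j) := by
    rintro _ ⟨x, rfl⟩
    rw [Subsingleton.elim x (IsLocalRing.closedPoint K)]
    exact hj
  obtain ⟨φ, hφ⟩ := Spec.map_surjective (IsOpenImmersion.lift (ProjSmooth.chart N k j) g hr)
  have h1 : Spec.map φ ≫ ProjSmooth.chart N k j = g := by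
    rw [hφ, IsOpenImmersion.lift_fac]
  refine ⟨j, fun l => φ.hom (MvPolynomial.X l), ?_⟩
  rw [← h1, Category.assoc, ProjSmooth.chart_toSpec, ← Spec.map_comp, Spec.map_inj] at hg
  rw [← h1, apt]
  congr 2
  apply CommRingCat.hom_ext
  apply MvPolynomial.ringHom_ext
  · intro c
    have := congr($(hg).hom c)
    simpa using this
  · intro l
    simp

end Groth.Agent.Lefpen.H720.AffPt
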