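import Mathlib.RingTheory.Smooth.StandardSmoothCotangent
import Mathlib.RingTheory.RingHom.StandardSmooth
import Mathlib.RingTheory.Kaehler.Basic
import Mathlib.LinearAlgebra.Dimension.Free

/-!
A standard smooth algebra of relative dimension `n` has at most `|K|^n` derivations into a finite field `K`.
-/

set_option autoImplicit false
universe u

namespace Groth.Agent.Lefpen.H720.DerCount

theorem card_le {R C K : Type u} [CommRing R] [CommRing C] [Field K] [Finite K] (n : ℕ) (α : R →+* C)
    (hα : α.IsStandardSmoothOfRelativeDimension n) (φ : C →+* K) {T : Type*} (D : T → C → K)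
    (hadd : ∀ t a b, D t (a + b) = D t a + D t b)
    (hmul : ∀ t a b, D t (a * b) = φ a * D t b + φ b * D t a)
    (hα0 : ∀ t r, D t (α r) = 0) (hinj : Function.Injective D) : Nat.card T ≤ Nat.card K ^ n := by
  classical
  let _ := α.toAlgebra
  let _ : Module C K := Module.compHom K φ
  let _ : Module R K := Module.compHom K (φ.comp α)
  have hsC : ∀ (c : C) (x : K), c • x = φ c * x := fun c x => rfl
  have hsR : ∀ (r : R) (x : K), r • x = φ (α r) * x := fun r x => rfl
  have hsRC : ∀ (r : R) (c : C), r • c = α r * c := fun r c => rfl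
  have : IsScalarTower R C K := ⟨fun r c x => by rw [hsC, hsRC, hsR, hsC, map_mul, mul_assoc]⟩
  have : Algebra.IsStandardSmoothOfRelativeDimension n R C := hα
  have : Nontrivial C := φ.domain_nontrivial
  have : Algebra.IsStandardSmooth R C :=
    Algebra.IsStandardSmoothOfRelativeDimension.isStandardSmooth n
  have hfree : Module.Free C (Ω[C⁄R]) := inferInstance
  have hrank : Module.rank C (Ω[C⁄R]) = n :=
    Algebra.IsStandardSmoothOfRelativeDimension.rank_kaehlerDifferential n
  have hfin : Module.Finite C (Ω[C⁄R]) :=
    Module.finite_of_rank_eq_nat hrank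
  have hfr : Module.finrank C (Ω[C⁄R]) = n := Module.finrank_eq_of_rank_eq hrank
  let b : Module.Basis (Fin n) C (Ω[C⁄R]) := Module.finBasisOfFinrankEq C (Ω[C⁄R]) hfr
  let Dm : T → Derivation R C K := fun t => Derivation.mk'
    { toFun := D t
      map_add' := hadd t
      map_smul' := fun r c => by
        rw [hsRC, hmul, hα0, mul_zero, add_zero]
        rfl }
    (fun x y => hmul t x y)
  have hDm : ∀ t c, Dm t c = D t c := fun t c => rfl
  have hinj2 : Function.Injective (fun (t : T) (i : Fin n) => (Dm t).liftKaehlerDifferential (b i)) := by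
    intro t t' h
    apply hinj
    have h1 : (Dm t).liftKaehlerDifferential = (Dm t').liftKaehlerDifferential :=
      b.ext fun i => congrFun h i
    funext c
    rw [← hDm, ← hDm, ← Derivation.liftKaehlerDifferential_comp_D (Dm t),
      ← Derivation.liftKaehlerDifferential_comp_D (Dm t'), h1]
  have := Nat.card_le_card_of_injective _ hinj2
  rwa [Nat.card_fun, Nat.card_eq_fintype_card (α := Fin n), Fintype.card_fin] at this

end Groth.Agent.Lefpen.H720.DerCount
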