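import Groth.Agent.Lefpen.H705.PointCoord
import Groth.Agent.Lefpen.H716.CIGeom

/-!
# Calculus of the local equations of forms

For `f : Y ⟶ P^r_k`, `V ≤ f⁻¹ D_+(T_j)`, `eqn f j V hV G ∈ Γ(Y, V)` is `f^*(G / T_j^d)` (helper705).

* `eqn_comp`, `ores_eqn`: functoriality.
* `cst f V c`: the constant `c` in `Γ(Y, V)`; `eqn_add_smul`.
* `eqn_secι`: the equations of `Sec i s` vanish on `Sec i s`.
* `eqn_ratio_mul`: `(T_b / T_a) (T_a / T_b) = 1`.
-/

set_option autoImplicit false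
universe u

open CategoryTheory AlgebraicGeometry Limits TopologicalSpace Opposite

namespace Groth.Agent.Lefpen.H720.Eqn

open LefPen Groth.Agent.Divis.IdealComap Groth.Agent.Fdesc.LocGen Groth.Agent.Lefpen.H705.HypIdeal
open Groth.Agent.Lefpen.H705.SecIdeal Groth.Agent.Lefpen.H705.ChartPoly Groth.Agent.Lefpen.H705.PointCoord
open Groth.Agent.Sga5

variable {r : ℕ} {k : Type u} [Field k] {d : ℕ} {Y Z : Scheme.{u}}

theorem eqn_congr {f g : Y ⟶ CohB1.ProjSpace r k} (h : f = g) (j : Fin (r + 1)) (V : Y.Opens)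
    (hV : V ≤ f ⁻¹ᵁ chart r k j) (G : Form r k d) : eqn f j V hV G = eqn g j V (h ▸ hV) G := by
  subst h; rfl

theorem eqn_comp (h : Z ⟶ Y) (f : Y ⟶ CohB1.ProjSpace r k) (j : Fin (r + 1)) (V : Y.Opens)
    (hV : V ≤ f ⁻¹ᵁ chart r k j) (V' : Z.Opens) (e : V' ≤ h ⁻¹ᵁ V) (G : Form r k d) :
    (h.appLE V V' e).hom (eqn f j V hV G) = eqn (h ≫ f) j V' (fun _ hx => hV (e hx)) G := by
  rw [eqn, eqn, ← RingHom.comp_apply, ← CommRingCat.hom_comp, Scheme.Hom.appLE_comp_appLE]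

theorem ores_eqn (f : Y ⟶ CohB1.ProjSpace r k) (j : Fin (r + 1)) {V V' : Y.Opens}
    (hV : V ≤ f ⁻¹ᵁ chart r k j) (e : V' ≤ V) (G : Form r k d) :
    ores e (eqn f j V hV G) = eqn f j V' (e.trans hV) G := by
  rw [eqn, eqn, ores, ← RingHom.comp_apply, ← CommRingCat.hom_comp, Scheme.Hom.appLE_map]

/-- The constant `c` as a function on the open `V` of the `k`-scheme `s : Y ⟶ Spec k`. -/
noncomputable def cst (s : Y ⟶ Spec (CommRingCat.of k)) (V : Y.Opens) (c : k) : Γ(Y, V) :=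
  (s.appLE ⊤ V le_top).hom ((Scheme.ΓSpecIso (CommRingCat.of k)).inv.hom c)

theorem cst_comp (h : Z ⟶ Y) (s : Y ⟶ Spec (CommRingCat.of k)) (V : Y.Opens) (V' : Z.Opens) (e : V' ≤ h ⁻¹ᵁ V)
    (c : k) : (h.appLE V V' e).hom (cst s V c) = cst (h ≫ s) V' c := by
  rw [cst, cst, ← RingHom.comp_apply, ← CommRingCat.hom_comp, Scheme.Hom.appLE_comp_appLE]

theorem dehom_add_smul (F G : Form r k d) (c : k) (j : Fin (r + 1)) :
    LefPen.dehom (F + c • G) j = LefPen.dehom F j + polyToChart j (MvPolynomial.C c) * LefPen.dehom G j := by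
  rw [dehom_eq, dehom_eq, dehom_eq, ← map_mul, ← map_add]
  congr 1
  change ProjChart.dehom r k j (F.1 + c • G.1) = _
  rw [map_add, MvPolynomial.smul_eq_C_mul, map_mul, ProjChart.dehom_C]

theorem eqn_add_smul (f : Y ⟶ CohB1.ProjSpace r k) (j : Fin (r + 1)) (V : Y.Opens)
    (hV : V ≤ f ⁻¹ᵁ chart r k j) (F G : Form r k d) (c : k) :
    eqn f j V hV (F + c • G) =
      eqn f j V hV F + cst (f ≫ CohB1.ProjSpace.toSpec r k) V c * eqn f j V hV G := by
  rw [eqn, dehom_add_smul, map_add, map_mul, polyToChart_C]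
  congr 2
  rw [← RingHom.comp_apply, ← CommRingCat.hom_comp, Scheme.Hom.appLE_comp_appLE]
  rfl

theorem stalkEqn_comp (h : Z ⟶ Y) (f : Y ⟶ CohB1.ProjSpace r k) (j : Fin (r + 1)) (z : Z)
    (hz : f (h z) ∈ chart r k j) (G : Form r k d) :
    stalkEqn (h ≫ f) j z hz G = (h.stalkMap z).hom (stalkEqn f j (h z) hz G) := by
  obtain ⟨V, hV, hzV, hle⟩ := exists_isAffineOpen_mem_and_subset (U := f ⁻¹ᵁ chart r k j) (x := h z) hz
  have h1 := germ_eqn f j V hle (h z) hzV G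
  have h2 := germ_eqn (h ≫ f) j (h ⁻¹ᵁ V) (fun _ hx => hle hx) z hzV G
  rw [← h1, ← h2, ← eqn_comp h f j V hle (h ⁻¹ᵁ V) le_rfl G]
  change _ = ((Y.presheaf.germ V (h z) hzV) ≫ h.stalkMap z).hom _
  rw [Scheme.Hom.germ_stalkMap, ← Scheme.Hom.app_eq_appLE]
  rfl

theorem section_eq_zero {V : Y.Opens} (s : Γ(Y, V)) (h : ∀ (x : Y) (hx : x ∈ V), Y.presheaf.germ V x hx s = 0) :
    s = 0 := by
  refine TopCat.Presheaf.section_ext Y.sheaf V s 0 fun x hx => ?_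
  rw [map_zero]
  exact h x hx

/-- The equations of a section vanish on it. -/
theorem eqn_secι (i : Y ⟶ CohB1.ProjSpace r k) (s : Set (Form r k d)) (G : Form r k d) (hG : G ∈ s)
    (j : Fin (r + 1)) (V : (Sec i s).Opens) (hV : V ≤ (secι i s ≫ i) ⁻¹ᵁ chart r k j) :
    eqn (secι i s ≫ i) j V hV G = 0 := by
  refine section_eq_zero _ fun y hy => ?_
  rw [germ_eqn (secι i s ≫ i) j V hV y hy G, stalkEqn_comp (secι i s) i j y (hV hy) G]
  have h1 := ker_stalkMap_secι i s y j (hV hy)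
  rw [← RingHom.mem_ker, h1]
  exact Ideal.subset_span ⟨G, hG, rfl⟩

/-- The coordinate `T_a` as a form of degree one. -/
noncomputable abbrev T (r : ℕ) (k : Type u) [Field k] (a : Fin (r + 1)) : Form r k 1 :=
  ⟨MvPolynomial.X a, LefPen.X_mem r k a⟩

theorem eqn_T_mul (f : Y ⟶ CohB1.ProjSpace r k) (a b : Fin (r + 1)) (V : Y.Opens)
    (ha : V ≤ f ⁻¹ᵁ chart r k a) (hb : V ≤ f ⁻¹ᵁ chart r k b) :
    eqn f a V ha (T r k b) * eqn f b V hb (T r k a) = 1 := by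
  have h1 := ores_ratio_mul (k := k) a b (chart r k a ⊓ chart r k b) inf_le_left inf_le_right
  have hab : V ≤ f ⁻¹ᵁ (chart r k a ⊓ chart r k b) := fun x hx => ⟨ha hx, hb hx⟩
  have h2 : ∀ (c : Fin (r + 1)) (hc : V ≤ f ⁻¹ᵁ chart r k c) (hle : chart r k a ⊓ chart r k b ≤ chart r k c)
      (G : Form r k 1), (f.appLE (chart r k a ⊓ chart r k b) V hab).hom (ores hle (LefPen.dehom G c)) =
        eqn f c V hc G := by
    intro c hc hle G
    rw [eqn, ores, ← RingHom.comp_apply, ← CommRingCat.hom_comp, Scheme.Hom.map_appLE]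
  rw [← h2 a ha inf_le_left, ← h2 b hb inf_le_right, ← map_mul]
  exact (congrArg _ h1).trans (map_one _)

/-- Where `T_b / T_a` is invertible we are in the chart `b`. -/
theorem basicOpen_eqn_T (a b : Fin (r + 1)) (f : Y ⟶ CohB1.ProjSpace r k) (V : Y.Opens)
    (ha : V ≤ f ⁻¹ᵁ chart r k a) :
    Y.basicOpen (eqn f a V ha (T r k b)) ≤ f ⁻¹ᵁ chart r k b := by
  intro x hx
  rw [eqn, Scheme.basicOpen_appLE] at hx
  exact (Groth.Agent.Lefpen.H716.CIGeom.mem_basicOpen_dehom_iff (T r k b) a (f x) (ha hx.1)).1 hx.2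

end Groth.Agent.Lefpen.H720.Eqn
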