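import Groth.Agent.Lefpen.H720.AffPt
import Groth.Agent.VarietyB.ProjHom
import Mathlib.Tactic.FieldSimp

/-!
# Points of projective space over a field in homogeneous coordinates
-/

set_option autoImplicit false
universe u

open CategoryTheory AlgebraicGeometry Limits TopologicalSpace Opposite

namespace Groth.Agent.Lefpen.H720.HomPt

open LefPen Groth.Agent.Lefpen.H720.AffPt Groth.Agent.Sga5 Groth.Agent.VarietyB.ProjHom
open HomogeneousLocalization

section general

variable {A σ : Type u} [CommRing A] [SetLike σ A] [AddSubgroupClass σ A] (𝒜 : ℕ → σ)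
  [GradedRing 𝒜] {K : Type u} [CommRing K] (g : A →+* K)

theorem SpecMap_awayLift_awayι {f h : A} (hf : IsUnit (g f)) (hh : IsUnit (g h)) {d e : ℕ}
    (hfd : f ∈ 𝒜 d) (hd : 0 < d) (hhe : h ∈ 𝒜 e) (he : 0 < e) :
    Spec.map (CommRingCat.ofHom (awayLift 𝒜 g f hf)) ≫ Proj.awayι 𝒜 f hfd hd =
      Spec.map (CommRingCat.ofHom (awayLift 𝒜 g h hh)) ≫ Proj.awayι 𝒜 h hhe he := by
  have hx' : IsUnit (g (f * h)) := by rw [map_mul]; exact hf.mul hh
  have h1 := awayLift_awayMap 𝒜 g hfd hhe rfl hx' hf
  have h2 := awayLift_awayMap 𝒜 g hhe hfd (mul_comm f h) hx' hh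
  rw [← h1, ← h2, CommRingCat.ofHom_comp, CommRingCat.ofHom_comp, Spec.map_comp, Spec.map_comp,
    Category.assoc, Category.assoc, Proj.SpecMap_awayMap_awayι 𝒜 hfd hd hhe rfl,
    Proj.SpecMap_awayMap_awayι 𝒜 hhe he hfd (mul_comm f h)]
  rfl

end general

variable {N : ℕ} {k : Type u} [Field k] {d : ℕ}

/-- The affine coordinates in the chart `D_+(T_i)` of the vector `v`. -/
def aff (i : Fin (N + 1)) (v : Fin (N + 1) → k) : Fin N → k := fun l => v (i.succAbove l) / v i

/-- The point with homogeneous coordinates `v`, seen in the chart `D_+(T_i)`. -/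
noncomputable def hpt (i : Fin (N + 1)) (v : Fin (N + 1) → k) :
    Spec (CommRingCat.of k) ⟶ CohB1.ProjSpace N k := apt i (aff i v)

theorem isUnit_eval {i : Fin (N + 1)} {v : Fin (N + 1) → k} (hv : v i ≠ 0) :
    IsUnit ((MvPolynomial.eval v) (MvPolynomial.X i)) := by
  rw [MvPolynomial.eval_X]
  exact isUnit_iff_ne_zero.mpr hv

theorem aeval_aff_comp {i : Fin (N + 1)} {v : Fin (N + 1) → k} (hv : v i ≠ 0) :
    (MvPolynomial.aeval (aff i v) : MvPolynomial (Fin N) k →ₐ[k] k).toRingHom.comp
      (ProjChart.chartEquiv N k i).symm.toRingHom =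
      awayLift (CohB1.polyGrading N k) (MvPolynomial.eval v) (MvPolynomial.X i) (isUnit_eval hv) := by
  have key : (MvPolynomial.aeval (aff i v) : MvPolynomial (Fin N) k →ₐ[k] k).toRingHom =
      (awayLift (CohB1.polyGrading N k) (MvPolynomial.eval v) (MvPolynomial.X i) (isUnit_eval hv)).comp
        (ProjChart.ofPoly N k i) := by
    apply MvPolynomial.ringHom_ext
    · intro r
      simp only [RingHom.comp_apply, AlgHom.toRingHom_eq_coe, RingHom.coe_coe, MvPolynomial.algHom_C]
      rw [ProjChart.ofPoly, MvPolynomial.coe_eval₂Hom, MvPolynomial.eval₂_C]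
      have h1 : ProjChart.chartC N k i r = Away.mk _ (ProjChart.X_mem N k i) 0 (MvPolynomial.C r)
          (by simp) := by
        apply HomogeneousLocalization.val_injective
        rw [ProjChart.val_chartC, HomogeneousLocalization.Away.val_mk]
        rw [← Localization.mk_one_eq_algebraMap]
        congr 1
      rw [h1]
      have h2 := awayLift_mk (CohB1.polyGrading N k) (MvPolynomial.eval v) (isUnit_eval hv)
        (ProjChart.X_mem N k i) 0 (MvPolynomial.C r) (by simp)
      rw [pow_zero, mul_one, MvPolynomial.eval_C] at h2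
      rw [h2]
      rfl
    · intro l
      simp only [RingHom.comp_apply, AlgHom.toRingHom_eq_coe, RingHom.coe_coe, MvPolynomial.aeval_X]
      rw [ProjChart.ofPoly, MvPolynomial.coe_eval₂Hom, MvPolynomial.eval₂_X, ProjChart.coord]
      have h2 := awayLift_mk (CohB1.polyGrading N k) (MvPolynomial.eval v) (isUnit_eval hv)
        (ProjChart.X_mem N k i) 1 (MvPolynomial.X (i.succAbove l))
        (by simpa using ProjChart.X_mem N k (i.succAbove l))
      rw [pow_one, MvPolynomial.eval_X, MvPolynomial.eval_X] at h2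
      rw [aff, ← h2, mul_div_cancel_right₀ _ hv]
  rw [key]
  ext x
  obtain ⟨p, rfl⟩ := (ProjChart.chartEquiv N k i).surjective x
  simp only [RingHom.comp_apply]
  have h3 : (ProjChart.chartEquiv N k i).symm.toRingHom ((ProjChart.chartEquiv N k i) p) = p :=
    (ProjChart.chartEquiv N k i).symm_apply_apply p
  rw [h3]
  rfl

theorem hpt_eq_away {i : Fin (N + 1)} {v : Fin (N + 1) → k} (hv : v i ≠ 0) :
    hpt i v = Spec.map (CommRingCat.ofHom (awayLift (CohB1.polyGrading N k) (MvPolynomial.eval v)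
      (MvPolynomial.X i) (isUnit_eval hv))) ≫
        Proj.awayι (CohB1.polyGrading N k) (MvPolynomial.X i) (ProjChart.X_mem N k i) Nat.one_pos := by
  rw [hpt, apt, ProjSmooth.chart, ← aeval_aff_comp hv]
  refine (Category.assoc _ _ _).symm.trans ?_
  rw [← Spec.map_comp, ← CommRingCat.ofHom_comp]
  rfl

/-- Independence of the chart. -/
theorem hpt_indep {i j : Fin (N + 1)} {v : Fin (N + 1) → k} (hi : v i ≠ 0) (hj : v j ≠ 0) :
    hpt i v = hpt j v := by
  rw [hpt_eq_away hi, hpt_eq_away hj]
  exact SpecMap_awayLift_awayι _ _ _ _ _ _ _ _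

theorem aff_smul (i : Fin (N + 1)) (v : Fin (N + 1) → k) {c : k} (hc : c ≠ 0) :
    aff i (c • v) = aff i v := by
  funext l
  simp only [aff, Pi.smul_apply, smul_eq_mul]
  rw [mul_div_mul_left _ _ hc]

/-- Evaluation of a dehomogenized form at the affine coordinates. -/
theorem aeval_dehom (i : Fin (N + 1)) (v : Fin (N + 1) → k) (hv : v i ≠ 0) (p : MvPolynomial (Fin (N + 1)) k) :
    MvPolynomial.aeval (aff i v) (ProjChart.dehom N k i p) = MvPolynomial.eval (fun l => (v i)⁻¹ * v l) p := by
  have : (MvPolynomial.aeval (aff i v) : MvPolynomial (Fin N) k →ₐ[k] k).toRingHom.comp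
      (ProjChart.dehom N k i) = MvPolynomial.eval (fun l => (v i)⁻¹ * v l) := by
    apply MvPolynomial.ringHom_ext
    · intro r
      simp
    · intro l
      obtain rfl | ⟨m, rfl⟩ := Fin.eq_self_or_eq_succAbove i l
      · simp [hv]
      · simp [aff, div_eq_inv_mul]
  exact congr($(this) p)

theorem aeval_dehom_eq_zero_iff (i : Fin (N + 1)) (v : Fin (N + 1) → k) (hv : v i ≠ 0) (G : Form N k d) :
    MvPolynomial.aeval (aff i v) (ProjChart.dehom N k i G.1) = 0 ↔ MvPolynomial.eval v G.1 = 0 := by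
  rw [aeval_dehom i v hv]
  have h1 : MvPolynomial.eval (fun l => (v i)⁻¹ * v l) G.1 = ((v i)⁻¹) ^ d * MvPolynomial.eval v G.1 := by
    have hG : G.1.IsHomogeneous d := G.2
    classical
    generalize G.1 = P at hG
    rw [MvPolynomial.eval_eq, MvPolynomial.eval_eq, Finset.mul_sum]
    refine Finset.sum_congr rfl fun s hs => ?_
    rw [hG.degree_eq_sum_deg_support hs]
    simp only [mul_pow, Finset.prod_mul_distrib]
    rw [Finset.prod_pow_eq_pow_sum]
    ring
  rw [h1, mul_eq_zero, or_iff_right (pow_ne_zero _ (inv_ne_zero hv))]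

/-- Two vectors giving the same point are proportional. -/
theorem exists_smul_of_hpt_eq {i j : Fin (N + 1)} {v w : Fin (N + 1) → k} (hv : v i ≠ 0) (hw : w j ≠ 0)
    (h : hpt i v = hpt j w) : ∃ c : k, c ≠ 0 ∧ w = c • v := by
  have hwi : w i ≠ 0 := by
    intro hwi
    let G : Form N k 1 := ⟨MvPolynomial.X i, ProjChart.X_mem N k i⟩
    have h1 : MvPolynomial.aeval (aff j w) (ProjChart.dehom N k j G.1) = 0 := by
      rw [aeval_dehom_eq_zero_iff j w hw G]
      simpa [G] using hwi
    obtain ⟨g, hg⟩ := exists_lift_apt G j (aff j w) h1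
    have h2 : g ≫ (hypIdeal G).subschemeι = apt i (aff i v) := hg.trans h.symm
    have h3 := dehom_eq_zero G i (aff i v) g h2
    rw [aeval_dehom_eq_zero_iff i v hv G] at h3
    simp only [G, MvPolynomial.eval_X] at h3
    exact hv h3
  rw [hpt_indep hw hwi] at h
  have h1 : aff i v = aff i w := apt_injective i h
  refine ⟨w i / v i, div_ne_zero hwi hv, ?_⟩
  funext l
  obtain rfl | ⟨m, rfl⟩ := Fin.eq_self_or_eq_succAbove i l
  · simp only [Pi.smul_apply, smul_eq_mul]
    field_simp
  · have h2 := congrFun h1 m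
    simp only [aff] at h2
    simp only [Pi.smul_apply, smul_eq_mul]
    rw [div_mul_eq_mul_div, mul_div_assoc, h2]
    field_simp

theorem hpt_smul {i j : Fin (N + 1)} {v : Fin (N + 1) → k} {c : k} (hc : c ≠ 0) (hi : v i ≠ 0)
    (hj : (c • v) j ≠ 0) : hpt j (c • v) = hpt i v := by
  have hj' : v j ≠ 0 := by
    intro h
    apply hj
    simp [h]
  rw [hpt_indep hi hj', hpt, hpt, aff_smul j v hc]

end Groth.Agent.Lefpen.H720.HomPt
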