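import Groth.Agent.Lefpen.H720.IncUniq
import Groth.Agent.Lefpen.H711.PencilExist
import Mathlib.RingTheory.Regular.Flat

/-!
# The blow-up of the base locus is the incidence scheme

* `isEff_incIdeal`: on the incidence scheme of a flat family the base ideal becomes effective Cartier.
* `isClosedImmersion_ker`: if `b` is the blow-up of `X` in `{F, G}` and `(b ≫ i, ρ)` satisfies the incidence relation then
  `(b, ρ) : X' ⟶ X ×_k P^1` is a closed immersion with ideal `T_0 F + T_1 G`.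
-/

set_option autoImplicit false
universe u

open CategoryTheory AlgebraicGeometry Limits TopologicalSpace Opposite

namespace Groth.Agent.Lefpen.H720.IncMain

open LefPen Groth.Agent.Divis.IdealComap Groth.Agent.Fdesc.LocGen Groth.Agent.Lefpen.H705.HypIdeal
open Groth.Agent.Lefpen.H705.SecIdeal Groth.Agent.Lefpen.H705.ChartPoly Groth.Agent.Lefpen.H720.Eqn
open Groth.Agent.Lefpen.H705.PointCoord Groth.Agent.Lefpen.H720.IncRel Groth.Agent.Lefpen.H720.IncUniq
open Groth.Agent.Sga5 RingTheory.Sequence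
open Groth.Agent.Lefpen.H711.PencilExist (Reg)

section algebra

open scoped Pointwise

theorem isWeaklyRegular_pair {A : Type*} [CommRing A] (g f : A) :
    IsWeaklyRegular A [g, f] ↔ (∀ x, g * x = 0 → x = 0) ∧ ∀ x, g ∣ f * x → g ∣ x := by
  rw [isWeaklyRegular_cons_iff, isWeaklyRegular_cons_iff]
  have h1 : IsSMulRegular A g ↔ ∀ x, g * x = 0 → x = 0 := by
    rw [isSMulRegular_iff_right_eq_zero_of_smul]
    rfl
  have h2 : IsSMulRegular (QuotSMulTop g A) f ↔ ∀ x, g ∣ f * x → g ∣ x := by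
    rw [isSMulRegular_quotient_iff_mem_of_smul_mem]
    have h3 : ∀ x : A, x ∈ (g • (⊤ : Submodule A A)) ↔ g ∣ x := by
      intro x
      rw [Submodule.mem_smul_pointwise_iff_exists]
      constructor
      · rintro ⟨y, -, rfl⟩; exact ⟨y, rfl⟩
      · rintro ⟨y, rfl⟩; exact ⟨y, trivial, rfl⟩
    refine forall_congr' fun x => ?_
    rw [h3, h3, smul_eq_mul]
  rw [h1, h2]
  simp

/-- Weakly regular pairs are stable under flat base change, elementwise. -/
theorem flat_pair {A B : Type*} [CommRing A] [CommRing B] (φ : A →+* B) (hφ : φ.Flat) {g f : A}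
    (h1 : ∀ x, g * x = 0 → x = 0) (h2 : ∀ x, g ∣ f * x → g ∣ x) :
    (∀ x, φ g * x = 0 → x = 0) ∧ ∀ x, φ g ∣ φ f * x → φ g ∣ x := by
  algebraize [φ]
  have h3 := ((isWeaklyRegular_pair g f).2 ⟨h1, h2⟩).of_flat (S := B)
  rw [List.map_cons, List.map_cons, List.map_nil] at h3
  exact (isWeaklyRegular_pair _ _).1 h3

/-- `g` is a nonzerodivisor modulo `f + v g`. -/
theorem quot_regular {B C : Type*} [CommRing B] [CommRing C] (φ : B →+* C) (hφ : Function.Surjective φ) {g f v E : B}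
    (hker : RingHom.ker φ = Ideal.span {E}) (hE : E = f + v * g)
    (h1 : ∀ x, g * x = 0 → x = 0) (h2 : ∀ x, g ∣ f * x → g ∣ x) :
    φ g ∈ nonZeroDivisors C ∧ Ideal.span {φ f, φ g} = Ideal.span {φ g} := by
  constructor
  · rw [mem_nonZeroDivisors_iff_right]
    intro y hy
    obtain ⟨p, rfl⟩ := hφ y
    rw [← map_mul, ← RingHom.mem_ker, hker, Ideal.mem_span_singleton'] at hy
    obtain ⟨q, hq⟩ := hy
    obtain ⟨q', hq'⟩ := h2 q ⟨p - v * q, by linear_combination hq - q * hE⟩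
    have h3 : g * (p - E * q') = 0 := by rw [hq'] at hq; linear_combination -hq
    have h4 := h1 _ h3
    rw [← RingHom.mem_ker, hker, Ideal.mem_span_singleton']
    exact ⟨q', by linear_combination -h4⟩
  · have h3 : φ f = -φ v * φ g := by
      have h4 : φ E = 0 := by
        rw [← RingHom.mem_ker, hker]; exact Ideal.mem_span_singleton_self _
      rw [hE, map_add, map_mul] at h4
      linear_combination h4
    rw [h3]
    apply le_antisymm
    · rw [Ideal.span_le]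
      rintro x (rfl | rfl)
      · exact Ideal.mul_mem_left _ _ (Ideal.mem_span_singleton_self _)
      · exact Ideal.mem_span_singleton_self _
    · rw [Ideal.span_singleton_le_iff_mem]
      exact Ideal.subset_span (by simp)

end algebra

variable {r : ℕ} {k : Type u} [Field k] {d : ℕ} {X W : Scheme.{u}} {i : X ⟶ CohB1.ProjSpace r k} {F G : Form r k d}

theorem Reg.pair (h : Reg i F G) (j : Fin (r + 1)) (U : X.affineOpens) (hU : U.1 ≤ i ⁻¹ᵁ chart r k j) :
    ((∀ x, eqn i j U.1 hU G * x = 0 → x = 0) ∧ ∀ x, eqn i j U.1 hU G ∣ eqn i j U.1 hU F * x → eqn i j U.1 hU G ∣ x) ∧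
    ((∀ x, eqn i j U.1 hU F * x = 0 → x = 0) ∧ ∀ x, eqn i j U.1 hU F ∣ eqn i j U.1 hU G * x → eqn i j U.1 hU F ∣ x) := by
  have hG := h.right j U hU
  have hF := h.left j U hU
  have h1 : ∀ x, eqn i j U.1 hU G * x = 0 → x = 0 := fun x hx =>
    mem_nonZeroDivisors_iff_right.1 hG x (by rw [mul_comm]; exact hx)
  have h2 : ∀ x, eqn i j U.1 hU F * x = 0 → x = 0 := fun x hx =>
    mem_nonZeroDivisors_iff_right.1 hF x (by rw [mul_comm]; exact hx)
  refine ⟨⟨h1, h.reg j U hU⟩, h2, ?_⟩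
  rintro x ⟨y, hy⟩
  obtain ⟨z, rfl⟩ := h.reg j U hU y ⟨x, hy.symm⟩
  refine ⟨z, ?_⟩
  have h3 := h1 (x - eqn i j U.1 hU F * z) (by linear_combination hy)
  linear_combination h3

/-- On the incidence scheme of a flat family the ideal of the base locus is effective Cartier. -/
theorem isEff_incIdeal (hreg : Reg i F G) (q : W ⟶ X) [Flat q] (τ : W ⟶ CohB1.ProjSpace 1 k)
    {I : W.IdealSheafData} (hI : I = incIdeal (q ≫ i) τ F G) :
    BlowUp.IsEffCartierIdeal (secIdeal (I.subschemeι ≫ q ≫ i) {F, G}) := by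
  intro z
  obtain ⟨j, hj⟩ := Groth.Agent.PerfB.ProjSpaceCover.exists_mem_basicOpen_X r k (i (q (I.subschemeι z)))
  obtain ⟨a, ha⟩ := Groth.Agent.PerfB.ProjSpaceCover.exists_mem_basicOpen_X 1 k (τ (I.subschemeι z))
  obtain ⟨U, V, hxU, hwV, hVW, hUj, e⟩ := exists_affine_le q (I.subschemeι z) (τ ⁻¹ᵁ chart 1 k a) ha
    (i ⁻¹ᵁ chart r k j) hj
  have hVj : V.1 ≤ (q ≫ i) ⁻¹ᵁ chart r k j := fun y hy => hUj (e hy)
  have hflat : (q.appLE U.1 V.1 e).hom.Flat := HasRingHomProperty.appLE @Flat q inferInstance U V e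
  obtain ⟨⟨hG1, hG2⟩, hF1, hF2⟩ := Reg.pair hreg j U hUj
  have pG := flat_pair _ hflat hG1 hG2
  have pF := flat_pair _ hflat hF1 hF2
  rw [eqn_comp q i j U.1 hUj V.1 e F, eqn_comp q i j U.1 hUj V.1 e G] at pG pF
  have hV' : IsAffineOpen (I.subschemeι ⁻¹ᵁ V.1) := V.2.preimage I.subschemeι
  refine ⟨⟨I.subschemeι ⁻¹ᵁ V.1, hV'⟩, hwV, ?_⟩
  have hsurj : Function.Surjective (I.subschemeι.app V.1).hom := I.subschemeι_app_surjective V
  have hker : RingHom.ker (I.subschemeι.app V.1).hom = Ideal.span {incEqn (q ≫ i) τ F G j a V.1 hVj hVW} := by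
    subst hI
    exact (Scheme.IdealSheafData.ker_subschemeι_app _ V).trans
      (incIdeal_ideal_of_le (q ≫ i) τ F G j a V hVj hVW)
  have hid : ∀ hle, (secIdeal (I.subschemeι ≫ q ≫ i) {F, G}).ideal ⟨I.subschemeι ⁻¹ᵁ V.1, hV'⟩ =
      Ideal.span {(I.subschemeι.app V.1).hom (eqn (q ≫ i) j V.1 hle F),
        (I.subschemeι.app V.1).hom (eqn (q ≫ i) j V.1 hle G)} := by
    intro hle
    have e1 := eqn_comp I.subschemeι (q ≫ i) j V.1 hle (I.subschemeι ⁻¹ᵁ V.1) le_rfl F
    have e2 := eqn_comp I.subschemeι (q ≫ i) j V.1 hle (I.subschemeι ⁻¹ᵁ V.1) le_rfl G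
    rw [← Scheme.Hom.app_eq_appLE] at e1 e2
    have e3 := secIdeal_ideal_of_le (I.subschemeι ≫ q ≫ i) {F, G} j ⟨I.subschemeι ⁻¹ᵁ V.1, hV'⟩ (fun y hy => hle hy)
    rw [Set.image_pair] at e3
    rw [e1, e2]
    exact e3
  rw [hid hVj]
  rcases fin_two_cases a with rfl | rfl
  · obtain ⟨h1, h2⟩ := quot_regular (I.subschemeι.app V.1).hom hsurj (v := eqn τ 0 V.1 hVW (T 1 k 1)) hker
      (by rw [incEqn, eqn_T_self, one_mul]) pG.1 pG.2
    exact ⟨_, h1, h2⟩
  · obtain ⟨h1, h2⟩ := quot_regular (I.subschemeι.app V.1).hom hsurj (v := eqn τ 1 V.1 hVW (T 1 k 0)) hker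
      (by rw [incEqn, eqn_T_self, one_mul, add_comm]) pF.1 pF.2
    refine ⟨_, h1, ?_⟩
    rw [Ideal.span_pair_comm]
    exact h2

variable {X' : Scheme.{u}} {b : X' ⟶ X} {ρ : X' ⟶ CohB1.ProjSpace 1 k}

/-- **The blow-up of the base locus of a pencil is the incidence scheme** `T_0 F + T_1 G = 0` in `X ×_k P^1`. -/
theorem isClosedImmersion_ker (hreg : Reg i F G) (hb : BlowUp.IsBlowUp b (secIdeal i {F, G}))
    (hk : ρ ≫ CohB1.ProjSpace.toSpec 1 k = b ≫ i ≫ CohB1.ProjSpace.toSpec r k) (hrel : Rel (b ≫ i) ρ F G)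
    {q : W ⟶ X} {τ : W ⟶ CohB1.ProjSpace 1 k}
    (hW : IsPullback q τ (i ≫ CohB1.ProjSpace.toSpec r k) (CohB1.ProjSpace.toSpec 1 k))
    (w : X' ⟶ W) (hq : w ≫ q = b) (hτ : w ≫ τ = ρ) :
    IsClosedImmersion w ∧ w.ker = incIdeal (q ≫ i) τ F G := by
  have hflatq : Flat q := by
    have h1 : Flat (CohB1.ProjSpace.toSpec 1 k) := inferInstance
    exact MorphismProperty.of_isPullback hW.flip h1
  set I := incIdeal (q ≫ i) τ F G with hI
  obtain ⟨l, hl⟩ : ∃ l : X' ⟶ I.subscheme, l ≫ I.subschemeι = w := by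
    apply exists_lift
    rw [← Category.assoc, hq, hτ]
    exact hrel
  have hEff : BlowUp.IsEffCartierIdeal ((secIdeal i {F, G}).comap (I.subschemeι ≫ q)) := by
    rw [Groth.Agent.Lefpen.H711.PencilLoc.comap_secIdeal, Category.assoc]
    exact isEff_incIdeal hreg q τ hI
  obtain ⟨h, hh, -⟩ := hb.2 _ (I.subschemeι ≫ q) hEff
  -- the parameter is the right one
  have hτ' : h ≫ ρ = I.subschemeι ≫ τ := by
    refine eq_of_rel (z := I.subschemeι ≫ q ≫ i) (F := F) (G := G) ?_ ?_ ?_ (isEff_incIdeal hreg q τ hI)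
    · rw [Category.assoc, hk, Category.assoc, ← hW.w, ← Category.assoc, hh]
      simp only [Category.assoc]
    · have h1 := hrel.comp h
      rw [← Category.assoc, hh, Category.assoc] at h1
      exact h1
    · exact rel_subschemeι (q ≫ i) τ F G
  have h1 : h ≫ l = 𝟙 _ := by
    rw [← cancel_mono I.subschemeι, Category.assoc, hl, Category.id_comp]
    apply hW.hom_ext
    · rw [Category.assoc, hq, hh]
    · rw [Category.assoc, hτ, hτ']
  have h2 : l ≫ h = 𝟙 _ := by
    obtain ⟨g, hg, huniq⟩ := hb.2 X' b hb.1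
    rw [huniq (l ≫ h) (by change (l ≫ h) ≫ b = b; rw [Category.assoc, hh, ← Category.assoc, hl, hq]),
      huniq (𝟙 X') (Category.id_comp b)]
  have hiso : IsIso l := ⟨h, h2, h1⟩
  refine ⟨by rw [← hl]; infer_instance, ?_⟩
  rw [← hl, Scheme.Hom.ker_comp_of_isIso, Scheme.IdealSheafData.ker_subschemeι]

end Groth.Agent.Lefpen.H720.IncMain
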