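import Groth.Agent.Lefpen.H720.Eqn
import Groth.Agent.Divis.CartierData

/-!
# The incidence relation `T_0 F + T_1 G = 0`

For `z : W ⟶ P^r`, `τ : W ⟶ P^1` and forms `F, G` of degree `d`:

* `incEqn z τ F G j a V = (T_0/T_a) (F/T_j^d) + (T_1/T_a) (G/T_j^d) ∈ Γ(W, V)`;
* `incIdeal z τ F G : W.IdealSheafData`, `incIdeal_ideal_of_le`, `incIdeal_comap`;
* `Rel z τ F G`: all these functions vanish; `rel_iff : Rel z τ F G ↔ incIdeal z τ F G = ⊥`;
* `eq_of_rel`: if `F, G` generate an effective Cartier ideal then `τ` is determined by the relation.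
-/

set_option autoImplicit false
universe u

open CategoryTheory AlgebraicGeometry Limits TopologicalSpace Opposite

namespace Groth.Agent.Lefpen.H720.IncRel

open LefPen Groth.Agent.Divis.IdealComap Groth.Agent.Fdesc.LocGen Groth.Agent.Lefpen.H705.HypIdeal
open Groth.Agent.Lefpen.H705.SecIdeal Groth.Agent.Lefpen.H705.ChartPoly Groth.Agent.Lefpen.H720.Eqn
open Groth.Agent.Sga5

variable {r : ℕ} {k : Type u} [Field k] {d : ℕ} {W W' : Scheme.{u}}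

/-- Change of chart for the equation of a form. -/
theorem eqn_change (f : W ⟶ CohB1.ProjSpace r k) (a b : Fin (r + 1)) (V : W.Opens)
    (ha : V ≤ f ⁻¹ᵁ chart r k a) (hb : V ≤ f ⁻¹ᵁ chart r k b) (G : Form r k d) :
    eqn f a V ha G = eqn f a V ha (T r k b) ^ d * eqn f b V hb G := by
  have h1 := ores_dehom (k := k) G a b (chart r k a ⊓ chart r k b) inf_le_left inf_le_right
  have hab : V ≤ f ⁻¹ᵁ (chart r k a ⊓ chart r k b) := fun x hx => ⟨ha hx, hb hx⟩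
  have h2 : ∀ {e : ℕ} (c : Fin (r + 1)) (hc : V ≤ f ⁻¹ᵁ chart r k c) (hle : chart r k a ⊓ chart r k b ≤ chart r k c)
      (G : Form r k e), (f.appLE (chart r k a ⊓ chart r k b) V hab).hom (ores hle (LefPen.dehom G c)) =
        eqn f c V hc G := by
    intro e c hc hle G
    rw [eqn, ores, ← RingHom.comp_apply, ← CommRingCat.hom_comp, Scheme.Hom.map_appLE]
  have h3 := congrArg (f.appLE (chart r k a ⊓ chart r k b) V hab).hom h1
  rw [map_mul, map_pow, h2 a ha, h2 b hb] at h3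
  rw [h3]
  congr 2
  exact h2 a ha inf_le_left (T r k b)

theorem eqn_T_self (f : W ⟶ CohB1.ProjSpace r k) (a : Fin (r + 1)) (V : W.Opens)
    (ha : V ≤ f ⁻¹ᵁ chart r k a) : eqn f a V ha (T r k a) = 1 := by
  have h : LefPen.dehom (T r k a) a = 1 := by
    rw [dehom_eq]
    change polyToChart a (ProjChart.dehom r k a (MvPolynomial.X a)) = 1
    rw [ProjChart.dehom_X_self, map_one]
  rw [eqn, h, map_one]

/-- The incidence equation. -/
noncomputable def incEqn (z : W ⟶ CohB1.ProjSpace r k) (τ : W ⟶ CohB1.ProjSpace 1 k) (F G : Form r k d)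
    (j : Fin (r + 1)) (a : Fin (1 + 1)) (V : W.Opens) (hj : V ≤ z ⁻¹ᵁ chart r k j) (ha : V ≤ τ ⁻¹ᵁ chart 1 k a) :
    Γ(W, V) :=
  eqn τ a V ha (T 1 k 0) * eqn z j V hj F + eqn τ a V ha (T 1 k 1) * eqn z j V hj G

theorem incEqn_comp (h : W' ⟶ W) (z : W ⟶ CohB1.ProjSpace r k) (τ : W ⟶ CohB1.ProjSpace 1 k) (F G : Form r k d)
    (j : Fin (r + 1)) (a : Fin (1 + 1)) (V : W.Opens) (hj : V ≤ z ⁻¹ᵁ chart r k j) (ha : V ≤ τ ⁻¹ᵁ chart 1 k a)
    (V' : W'.Opens) (e : V' ≤ h ⁻¹ᵁ V) :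
    (h.appLE V V' e).hom (incEqn z τ F G j a V hj ha) =
      incEqn (h ≫ z) (h ≫ τ) F G j a V' (fun _ hx => hj (e hx)) (fun _ hx => ha (e hx)) := by
  rw [incEqn, map_add, map_mul, map_mul, eqn_comp, eqn_comp, eqn_comp, eqn_comp, incEqn]

theorem ores_incEqn (z : W ⟶ CohB1.ProjSpace r k) (τ : W ⟶ CohB1.ProjSpace 1 k) (F G : Form r k d)
    (j : Fin (r + 1)) (a : Fin (1 + 1)) {V V' : W.Opens} (hj : V ≤ z ⁻¹ᵁ chart r k j) (ha : V ≤ τ ⁻¹ᵁ chart 1 k a)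
    (e : V' ≤ V) : ores e (incEqn z τ F G j a V hj ha) = incEqn z τ F G j a V' (e.trans hj) (e.trans ha) := by
  rw [incEqn, map_add, map_mul, map_mul, ores_eqn, ores_eqn, ores_eqn, ores_eqn, incEqn]

theorem incEqn_change (z : W ⟶ CohB1.ProjSpace r k) (τ : W ⟶ CohB1.ProjSpace 1 k) (F G : Form r k d)
    (j j' : Fin (r + 1)) (a a' : Fin (1 + 1)) (V : W.Opens) (hj : V ≤ z ⁻¹ᵁ chart r k j)
    (ha : V ≤ τ ⁻¹ᵁ chart 1 k a) (hj' : V ≤ z ⁻¹ᵁ chart r k j') (ha' : V ≤ τ ⁻¹ᵁ chart 1 k a') :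
    incEqn z τ F G j a V hj ha =
      (eqn z j V hj (T r k j') ^ d * eqn τ a V ha (T 1 k a')) * incEqn z τ F G j' a' V hj' ha' := by
  rw [incEqn, incEqn, eqn_change z j j' V hj hj' F, eqn_change z j j' V hj hj' G,
    eqn_change τ a a' V ha ha' (T 1 k 0), eqn_change τ a a' V ha ha' (T 1 k 1)]
  ring

theorem isUnit_eqn_T (f : W ⟶ CohB1.ProjSpace r k) (a b : Fin (r + 1)) (V : W.Opens)
    (ha : V ≤ f ⁻¹ᵁ chart r k a) (hb : V ≤ f ⁻¹ᵁ chart r k b) : IsUnit (eqn f a V ha (T r k b)) :=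
  IsUnit.of_mul_eq_one _ (eqn_T_mul f a b V ha hb)

theorem span_incEqn (z : W ⟶ CohB1.ProjSpace r k) (τ : W ⟶ CohB1.ProjSpace 1 k) (F G : Form r k d)
    (j j' : Fin (r + 1)) (a a' : Fin (1 + 1)) (V : W.Opens) (hj : V ≤ z ⁻¹ᵁ chart r k j)
    (ha : V ≤ τ ⁻¹ᵁ chart 1 k a) (hj' : V ≤ z ⁻¹ᵁ chart r k j') (ha' : V ≤ τ ⁻¹ᵁ chart 1 k a') :
    Ideal.span {incEqn z τ F G j a V hj ha} = Ideal.span {incEqn z τ F G j' a' V hj' ha'} := by
  rw [incEqn_change z τ F G j j' a a' V hj ha hj' ha']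
  exact Ideal.span_singleton_mul_left_unit
    (((isUnit_eqn_T z j j' V hj hj').pow d).mul (isUnit_eqn_T τ a a' V ha ha')) _

theorem exists_charts (z : W ⟶ CohB1.ProjSpace r k) (τ : W ⟶ CohB1.ProjSpace 1 k) (x : W) (U : W.Opens) (hU : x ∈ U) :
    ∃ (j : Fin (r + 1)) (a : Fin (1 + 1)) (V : W.affineOpens), x ∈ V.1 ∧ V.1 ≤ U ∧ V.1 ≤ z ⁻¹ᵁ chart r k j ∧
      V.1 ≤ τ ⁻¹ᵁ chart 1 k a := by
  obtain ⟨j, hj⟩ := Groth.Agent.PerfB.ProjSpaceCover.exists_mem_basicOpen_X r k (z x)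
  obtain ⟨a, ha⟩ := Groth.Agent.PerfB.ProjSpaceCover.exists_mem_basicOpen_X 1 k (τ x)
  obtain ⟨V, hV, hxV, hle⟩ := exists_isAffineOpen_mem_and_subset
    (U := U ⊓ (z ⁻¹ᵁ chart r k j ⊓ τ ⁻¹ᵁ chart 1 k a)) (x := x) ⟨hU, hj, ha⟩
  exact ⟨j, a, ⟨V, hV⟩, hxV, fun y hy => (hle hy).1, fun y hy => (hle hy).2.1, fun y hy => (hle hy).2.2⟩

theorem exists_incIdeal (z : W ⟶ CohB1.ProjSpace r k) (τ : W ⟶ CohB1.ProjSpace 1 k) (F G : Form r k d) :
    ∃ D : W.IdealSheafData, ∀ (j : Fin (r + 1)) (a : Fin (1 + 1)) (V : W.affineOpens)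
      (hj : V.1 ≤ z ⁻¹ᵁ chart r k j) (ha : V.1 ≤ τ ⁻¹ᵁ chart 1 k a),
      D.ideal V = Ideal.span {incEqn z τ F G j a V.1 hj ha} := by
  let ι := {p : (Fin (r + 1) × Fin (1 + 1)) × W.affineOpens //
    p.2.1 ≤ z ⁻¹ᵁ chart r k p.1.1 ∧ p.2.1 ≤ τ ⁻¹ᵁ chart 1 k p.1.2}
  obtain ⟨D, hD⟩ := Groth.Agent.Divis.CartierData.exists_ideal (X := W) (ι := ι) (fun p => p.1.2)
    (by
      rw [eq_top_iff]
      intro x _
      obtain ⟨j, a, V, hx, -, hj, ha⟩ := exists_charts z τ x ⊤ trivial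
      exact Opens.mem_iSup.mpr ⟨⟨((j, a), V), hj, ha⟩, hx⟩)
    (fun p => incEqn z τ F G p.1.1.1 p.1.1.2 p.1.2.1 p.2.1 p.2.2)
    (fun p q V hp hq => by
      rw [ores_incEqn, ores_incEqn]
      exact span_incEqn z τ F G _ _ _ _ _ _ _ _ _)
  refine ⟨D, fun j a V hj ha => ?_⟩
  rw [hD ⟨((j, a), V), hj, ha⟩ V le_rfl, ores_refl]

/-- The ideal sheaf of the incidence locus `T_0 F + T_1 G = 0`. -/
noncomputable def incIdeal (z : W ⟶ CohB1.ProjSpace r k) (τ : W ⟶ CohB1.ProjSpace 1 k) (F G : Form r k d) :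
    W.IdealSheafData := (exists_incIdeal z τ F G).choose

theorem incIdeal_ideal_of_le (z : W ⟶ CohB1.ProjSpace r k) (τ : W ⟶ CohB1.ProjSpace 1 k) (F G : Form r k d)
    (j : Fin (r + 1)) (a : Fin (1 + 1)) (V : W.affineOpens)
    (hj : V.1 ≤ z ⁻¹ᵁ chart r k j) (ha : V.1 ≤ τ ⁻¹ᵁ chart 1 k a) :
    (incIdeal z τ F G).ideal V = Ideal.span {incEqn z τ F G j a V.1 hj ha} :=
  (exists_incIdeal z τ F G).choose_spec j a V hj ha

/-- The incidence ideal is determined by its values on affine opens inside the charts. -/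
theorem eq_incIdeal (z : W ⟶ CohB1.ProjSpace r k) (τ : W ⟶ CohB1.ProjSpace 1 k) (F G : Form r k d)
    (D : W.IdealSheafData) (hD : ∀ (j : Fin (r + 1)) (a : Fin (1 + 1)) (V : W.affineOpens)
      (hj : V.1 ≤ z ⁻¹ᵁ chart r k j) (ha : V.1 ≤ τ ⁻¹ᵁ chart 1 k a),
      D.ideal V = Ideal.span {incEqn z τ F G j a V.1 hj ha}) : D = incIdeal z τ F G := by
  refine ext_of_forall_mem fun x => ?_
  obtain ⟨j, a, V, hx, -, hj, ha⟩ := exists_charts z τ x ⊤ trivial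
  exact ⟨V, hx, by rw [hD j a V hj ha, incIdeal_ideal_of_le z τ F G j a V hj ha]⟩

theorem incIdeal_comap (h : W' ⟶ W) (z : W ⟶ CohB1.ProjSpace r k) (τ : W ⟶ CohB1.ProjSpace 1 k) (F G : Form r k d) :
    (incIdeal z τ F G).comap h = incIdeal (h ≫ z) (h ≫ τ) F G := by
  refine ext_of_forall_mem fun x => ?_
  obtain ⟨j, a, V, hx, -, hj, ha⟩ := exists_charts z τ (h x) ⊤ trivial
  obtain ⟨V', hV', hxV', hle⟩ := exists_isAffineOpen_mem_and_subset (U := h ⁻¹ᵁ V.1) (x := x) hx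
  refine ⟨⟨V', hV'⟩, hxV', ?_⟩
  rw [ideal_comap _ h V ⟨V', hV'⟩ hle, incIdeal_ideal_of_le z τ F G j a V hj ha, Ideal.map_span,
    Set.image_singleton, incEqn_comp, incIdeal_ideal_of_le (h ≫ z) (h ≫ τ) F G j a ⟨V', hV'⟩
      (fun _ hx => hj (hle hx)) (fun _ hx => ha (hle hx))]

/-- The incidence relation. -/
def Rel (z : W ⟶ CohB1.ProjSpace r k) (τ : W ⟶ CohB1.ProjSpace 1 k) (F G : Form r k d) : Prop :=
  ∀ (j : Fin (r + 1)) (a : Fin (1 + 1)) (V : W.Opens) (hj : V ≤ z ⁻¹ᵁ chart r k j) (ha : V ≤ τ ⁻¹ᵁ chart 1 k a),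
    incEqn z τ F G j a V hj ha = 0

theorem rel_iff (z : W ⟶ CohB1.ProjSpace r k) (τ : W ⟶ CohB1.ProjSpace 1 k) (F G : Form r k d) :
    Rel z τ F G ↔ incIdeal z τ F G = ⊥ := by
  constructor
  · intro h
    refine ext_of_forall_mem fun x => ?_
    obtain ⟨j, a, V, hx, -, hj, ha⟩ := exists_charts z τ x ⊤ trivial
    refine ⟨V, hx, ?_⟩
    rw [incIdeal_ideal_of_le z τ F G j a V hj ha, h j a V.1 hj ha]
    simp
  · intro h j a V hj ha
    refine section_eq_zero _ fun x hx => ?_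
    obtain ⟨V', hV', hxV', hle⟩ := exists_isAffineOpen_mem_and_subset (U := V) (x := x) hx
    have h1 := incIdeal_ideal_of_le z τ F G j a ⟨V', hV'⟩ ((show V' ≤ V from hle).trans hj)
      ((show V' ≤ V from hle).trans ha)
    rw [h] at h1
    have h2 : incEqn z τ F G j a V' ((show V' ≤ V from hle).trans hj) ((show V' ≤ V from hle).trans ha) = 0 := by
      have h3 : Ideal.span {incEqn z τ F G j a V' ((show V' ≤ V from hle).trans hj)
        ((show V' ≤ V from hle).trans ha)} = ⊥ := by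
        rw [← h1]; simp
      simpa using h3
    rw [← ores_incEqn z τ F G j a hj ha hle] at h2
    have h4 := W.presheaf.germ_res (homOfLE (show V' ≤ V from hle)) x hxV'
    have h5 := congr($(h4).hom (incEqn z τ F G j a V hj ha))
    refine h5.symm.trans ?_
    change (W.presheaf.germ V' x hxV').hom (ores hle (incEqn z τ F G j a V hj ha)) = 0
    rw [h2, map_zero]

theorem Rel.comp {z : W ⟶ CohB1.ProjSpace r k} {τ : W ⟶ CohB1.ProjSpace 1 k} {F G : Form r k d}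
    (h : Rel z τ F G) (q : W' ⟶ W) : Rel (q ≫ z) (q ≫ τ) F G := by
  rw [rel_iff, ← incIdeal_comap, (rel_iff z τ F G).1 h]
  simp

theorem rel_subschemeι (z : W ⟶ CohB1.ProjSpace r k) (τ : W ⟶ CohB1.ProjSpace 1 k) (F G : Form r k d) :
    Rel ((incIdeal z τ F G).subschemeι ≫ z) ((incIdeal z τ F G).subschemeι ≫ τ) F G := by
  rw [rel_iff, ← incIdeal_comap, eq_bot_iff, ← Scheme.IdealSheafData.le_map_iff_comap_le]
  rw [Scheme.IdealSheafData.map_bot, Scheme.IdealSheafData.ker_subschemeι]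

/-- `q` factors through the incidence locus if it satisfies the relation. -/
theorem exists_lift {z : W ⟶ CohB1.ProjSpace r k} {τ : W ⟶ CohB1.ProjSpace 1 k} {F G : Form r k d} (q : W' ⟶ W)
    (h : Rel (q ≫ z) (q ≫ τ) F G) :
    ∃ l : W' ⟶ (incIdeal z τ F G).subscheme, l ≫ (incIdeal z τ F G).subschemeι = q := by
  have hle : (incIdeal z τ F G).subschemeι.ker ≤ q.ker := by
    rw [Scheme.IdealSheafData.ker_subschemeι, ← Scheme.IdealSheafData.map_bot,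
      Scheme.IdealSheafData.le_map_iff_comap_le, incIdeal_comap, (rel_iff _ _ F G).1 h]
  exact ⟨IsClosedImmersion.lift _ _ hle, IsClosedImmersion.lift_fac _ _ hle⟩

end Groth.Agent.Lefpen.H720.IncRel
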