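import Groth.Agent.Lefpen.H720.IncRel
import Groth.Prelude.Def_BlowUp2

/-!
# The incidence relation determines the parameter

* `eq_of_coords`: two `k`-morphisms to `P^N` landing in the same chart with the same coordinates are equal;
* `eq_of_rel`: two morphisms `τ, τ' : Z ⟶ P^1` over `k` with `T_0 F + T_1 G = 0`, where `F, G` generate an effective
  Cartier ideal of `Z`, are equal.
-/

set_option autoImplicit false
universe u

open CategoryTheory AlgebraicGeometry Limits TopologicalSpace Opposite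

namespace Groth.Agent.Lefpen.H720.IncUniq

open LefPen Groth.Agent.Divis.IdealComap Groth.Agent.Fdesc.LocGen Groth.Agent.Lefpen.H705.HypIdeal
open Groth.Agent.Lefpen.H705.SecIdeal Groth.Agent.Lefpen.H705.ChartPoly Groth.Agent.Lefpen.H720.Eqn
open Groth.Agent.Lefpen.H705.PointCoord Groth.Agent.Lefpen.H720.IncRel
open Groth.Agent.Sga5

variable {r : ℕ} {k : Type u} [Field k] {d : ℕ} {W W' : Scheme.{u}}

theorem lift_appTop (a : Fin (r + 1)) (l : W ⟶ Spec (CommRingCat.of (MvPolynomial (Fin r) k)))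
    (e : ⊤ ≤ (l ≫ ProjSmooth.chart r k a) ⁻¹ᵁ LefPen.chart r k a) (p : MvPolynomial (Fin r) k) :
    l.appTop.hom ((Scheme.ΓSpecIso (CommRingCat.of (MvPolynomial (Fin r) k))).inv.hom p) =
      ((l ≫ ProjSmooth.chart r k a).appLE (LefPen.chart r k a) ⊤ e).hom (polyToChart a p) := by
  have h1 := Scheme.Hom.appLE_comp_appLE l (ProjSmooth.chart r k a) (LefPen.chart r k a) ⊤ ⊤
    (top_le_preimage a) le_top
  rw [← h1, CommRingCat.hom_comp, RingHom.comp_apply, chart_appLE_polyToChart]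
  have h2 : l.appLE ⊤ ⊤ le_top = l.appTop := Scheme.Hom.appLE_eq_app _
  rw [h2]

theorem eq_of_coords {τ τ' : W ⟶ CohB1.ProjSpace r k}
    (hk : τ ≫ CohB1.ProjSpace.toSpec r k = τ' ≫ CohB1.ProjSpace.toSpec r k) (a : Fin (r + 1))
    (ha : ⊤ ≤ τ ⁻¹ᵁ chart r k a) (ha' : ⊤ ≤ τ' ⁻¹ᵁ chart r k a)
    (h : ∀ c, eqn τ a ⊤ ha (T r k c) = eqn τ' a ⊤ ha' (T r k c)) : τ = τ' := by
  have key : ∀ (f : W ⟶ CohB1.ProjSpace r k) (hf : ⊤ ≤ f ⁻¹ᵁ chart r k a), ∃ l : W ⟶ Spec (CommRingCat.of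
      (MvPolynomial (Fin r) k)), l ≫ ProjSmooth.chart r k a = f := by
    intro f hf
    have hr : Set.range f ⊆ Set.range (ProjSmooth.chart r k a) := by
      rintro _ ⟨x, rfl⟩
      have h1 : f x ∈ (ProjSmooth.chart r k a).opensRange := by
        rw [ProjSmooth.opensRange_chart]; exact hf (x := x) trivial
      exact h1
    exact ⟨IsOpenImmersion.lift (ProjSmooth.chart r k a) f hr, IsOpenImmersion.lift_fac _ _ _⟩
  obtain ⟨l, rfl⟩ := key τ ha
  obtain ⟨l', rfl⟩ := key τ' ha'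
  congr 1
  apply ext_of_isAffine
  rw [← cancel_epi (Scheme.ΓSpecIso (CommRingCat.of (MvPolynomial (Fin r) k))).inv]
  apply CommRingCat.hom_ext
  apply MvPolynomial.ringHom_ext
  · intro c
    change l.appTop.hom ((Scheme.ΓSpecIso (CommRingCat.of (MvPolynomial (Fin r) k))).inv.hom _) =
      l'.appTop.hom ((Scheme.ΓSpecIso (CommRingCat.of (MvPolynomial (Fin r) k))).inv.hom _)
    rw [lift_appTop a l ha, lift_appTop a l' ha', polyToChart_C]
    have e1 := cst_comp (l ≫ ProjSmooth.chart r k a) (CohB1.ProjSpace.toSpec r k) (chart r k a) ⊤ ha c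
    have e2 := cst_comp (l' ≫ ProjSmooth.chart r k a) (CohB1.ProjSpace.toSpec r k) (chart r k a) ⊤ ha' c
    refine e1.trans (Eq.trans ?_ e2.symm)
    rw [hk]
  · intro j
    change l.appTop.hom ((Scheme.ΓSpecIso (CommRingCat.of (MvPolynomial (Fin r) k))).inv.hom _) =
      l'.appTop.hom ((Scheme.ΓSpecIso (CommRingCat.of (MvPolynomial (Fin r) k))).inv.hom _)
    rw [lift_appTop a l ha, lift_appTop a l' ha']
    have h1 : polyToChart a (MvPolynomial.X j) = LefPen.dehom (T r k (a.succAbove j)) a := by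
      rw [dehom_eq]
      congr 1
      exact (ProjChart.dehom_X r k a j).symm
    rw [h1]
    exact h (a.succAbove j)

/-- Locality of equality of morphisms. -/
theorem hom_ext_of_nhds {Y : Scheme.{u}} {f g : W ⟶ Y}
    (h : ∀ x : W, ∃ V : W.Opens, x ∈ V ∧ V.ι ≫ f = V.ι ≫ g) : f = g := by
  choose V hx hV using h
  refine (Scheme.openCoverOfIsOpenCover W V ?_).hom_ext _ _ (fun x => hV x)
  rw [IsOpenCover, eq_top_iff]
  intro x _
  exact Opens.mem_iSup.2 ⟨x, hx x⟩

theorem eqn_ι (V : W.Opens) (f : W ⟶ CohB1.ProjSpace r k) (j : Fin (r + 1)) (hV : V ≤ f ⁻¹ᵁ chart r k j)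
    (G : Form r k d) (e : ⊤ ≤ (V.ι ≫ f) ⁻¹ᵁ chart r k j) :
    eqn (V.ι ≫ f) j ⊤ e G = (V.ι.appLE V ⊤ (by rw [Scheme.Opens.ι_preimage_self])).hom (eqn f j V hV G) := by
  rw [eqn_comp]

/-- Pullback of nonzerodivisors along flat morphisms. -/
theorem appLE_mem_nonZeroDivisors {Y : Scheme.{u}} (q : W ⟶ Y) [Flat q] {U : Y.Opens} {V : W.Opens}
    (hU : IsAffineOpen U) (hV : IsAffineOpen V) (h : V ≤ q ⁻¹ᵁ U)
    {e : Γ(Y, U)} (he : e ∈ nonZeroDivisors Γ(Y, U)) : (q.appLE U V h).hom e ∈ nonZeroDivisors Γ(W, V) := by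
  have h1 : (q.appLE U V h).hom.Flat := HasRingHomProperty.appLE @Flat q inferInstance ⟨U, hU⟩ ⟨V, hV⟩ h
  algebraize [(q.appLE U V h).hom]
  have h2 : IsSMulRegular Γ(Y, U) e := (isRegular_iff_mem_nonZeroDivisors.2 he).left.isSMulRegular
  have h3 : IsSMulRegular Γ(W, V) (algebraMap Γ(Y, U) Γ(W, V) e) := h2.of_flat
  rw [mem_nonZeroDivisors_iff_right]
  intro x hx
  refine h3 ?_
  change (q.appLE U V h).hom e * x = (q.appLE U V h).hom e * 0
  rw [mul_zero, mul_comm]
  exact hx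

/-- A nonzerodivisor on an affine open stays one on a smaller affine open. -/
theorem ores_mem_nonZeroDivisors {U V : W.Opens} (hU : IsAffineOpen U) (hV : IsAffineOpen V) (h : V ≤ U)
    {e : Γ(W, U)} (he : e ∈ nonZeroDivisors Γ(W, U)) : ores h e ∈ nonZeroDivisors Γ(W, V) := by
  have h1 := appLE_mem_nonZeroDivisors (𝟙 W) hU hV h he
  have h2 : (𝟙 W : W ⟶ W).appLE U V h = W.presheaf.map (homOfLE h).op := by
    rw [Scheme.Hom.appLE, Scheme.Hom.id_app]
    exact Category.id_comp _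
  rw [h2] at h1
  exact h1

theorem fin_two_cases (a : Fin (1 + 1)) : a = 0 ∨ a = 1 := by
  fin_cases a
  · exact Or.inl rfl
  · exact Or.inr rfl

/-- Two parameters satisfying the incidence relation agree if `F, G` generate an effective Cartier ideal. -/
theorem eq_of_rel {z : W ⟶ CohB1.ProjSpace r k} {τ τ' : W ⟶ CohB1.ProjSpace 1 k} {F G : Form r k d}
    (hk : τ ≫ CohB1.ProjSpace.toSpec 1 k = τ' ≫ CohB1.ProjSpace.toSpec 1 k)
    (h : Rel z τ F G) (h' : Rel z τ' F G) (hE : BlowUp.IsEffCartierIdeal (secIdeal z {F, G})) : τ = τ' := by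
  refine hom_ext_of_nhds fun x => ?_
  obtain ⟨U, hxU, e, he, hU⟩ := hE x
  obtain ⟨b, hb⟩ := Groth.Agent.PerfB.ProjSpaceCover.exists_mem_basicOpen_X 1 k (τ' x)
  obtain ⟨j, a, V, hxV, hVU, hj, ha⟩ := exists_charts z τ x (U.1 ⊓ τ' ⁻¹ᵁ chart 1 k b) ⟨hxU, hb⟩
  have hVU' : V.1 ≤ U.1 := fun y hy => (hVU hy).1
  have hb' : V.1 ≤ τ' ⁻¹ᵁ chart 1 k b := fun y hy => (hVU hy).2
  have he' : ores hVU' e ∈ nonZeroDivisors Γ(W, V.1) := ores_mem_nonZeroDivisors U.2 V.2 hVU' he
  have h1 : (secIdeal z {F, G}).ideal V = Ideal.span {ores hVU' e} := by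
    rw [← (secIdeal z {F, G}).map_ideal (U := V) (V := U) hVU', hU, Ideal.map_span, Set.image_singleton]
    rfl
  rw [secIdeal_ideal_of_le z _ j V hj, Set.image_pair] at h1
  -- the determinant vanishes
  have hdet : ∀ (b : Fin (1 + 1)) (hb' : V.1 ≤ τ' ⁻¹ᵁ chart 1 k b),
      eqn τ a V.1 ha (T 1 k 0) * eqn τ' b V.1 hb' (T 1 k 1) =
      eqn τ a V.1 ha (T 1 k 1) * eqn τ' b V.1 hb' (T 1 k 0) := by
    intro b hb'
    have hr := h j a V.1 hj ha
    have hr' := h' j b V.1 hj hb'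
    rw [incEqn] at hr hr'
    rw [← sub_eq_zero]
    have hmem : ores hVU' e ∈ Ideal.span {eqn z j V.1 hj F, eqn z j V.1 hj G} := by
      rw [h1]; exact Ideal.mem_span_singleton_self _
    obtain ⟨α, β, hαβ⟩ := Ideal.mem_span_pair.1 hmem
    refine (mem_nonZeroDivisors_iff_right.1 he') _ ?_
    rw [← hαβ]
    linear_combination (α * eqn τ' b V.1 hb' (T 1 k 1) - β * eqn τ' b V.1 hb' (T 1 k 0)) * hr +
      (β * eqn τ a V.1 ha (T 1 k 0) - α * eqn τ a V.1 ha (T 1 k 1)) * hr'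
  have ha'' : V.1 ≤ τ' ⁻¹ᵁ chart 1 k a := by
    have hu : IsUnit (eqn τ' b V.1 hb' (T 1 k a)) := by
      have hself := eqn_T_self τ a V.1 ha
      have hself' := eqn_T_self τ' b V.1 hb'
      have hd := hdet b hb'
      have ha01 := fin_two_cases a
      have hb01 := fin_two_cases b
      rcases ha01 with rfl | rfl <;> rcases hb01 with rfl | rfl
      · rw [hself']; exact isUnit_one
      · rw [hself, hself', one_mul] at hd
        exact IsUnit.of_mul_eq_one_right _ hd.symm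
      · rw [hself, hself', one_mul] at hd
        exact IsUnit.of_mul_eq_one_right _ hd
      · rw [hself']; exact isUnit_one
    refine le_trans ?_ (basicOpen_eqn_T b a τ' V.1 hb')
    rw [Scheme.basicOpen_of_isUnit _ hu]
  refine ⟨V.1, hxV, ?_⟩
  refine eq_of_coords (by rw [Category.assoc, Category.assoc, hk]) a (fun y _ => ha y.2) (fun y _ => ha'' y.2) ?_
  intro c
  rw [eqn_ι V.1 τ a ha, eqn_ι V.1 τ' a ha'']
  congr 1
  have hself := eqn_T_self τ a V.1 ha
  have hself' := eqn_T_self τ' a V.1 ha''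
  have hd := hdet a ha''
  have ha01 := fin_two_cases a
  have hc01 := fin_two_cases c
  rcases ha01 with rfl | rfl <;> rcases hc01 with rfl | rfl
  · rw [hself, hself']
  · rw [hself, hself', one_mul, mul_one] at hd
    exact hd.symm
  · rw [hself, hself', one_mul, mul_one] at hd
    exact hd
  · rw [hself, hself']

end Groth.Agent.Lefpen.H720.IncUniq
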