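import Groth.Agent.Lefpen.H712.HT
import Groth.Agent.Etcore.HC
import Groth.Prelude.Def_LefMon

/-!
# Dictionary: `HT f (const M) t n` is `H^n(X_T, M)`, and `rs` is `HC` of the base changed morphism

* `trc : HT f (const M) t n → H^n(X ×_Y T, M)` (bijective), `trc_rs : trc (rs φ x) = HC (bm φ) (trc x)`.
* `HC_eq_self_of_rs`: if `rs φ` is the identity then so is `HC (bm φ)`.
* `HC_conj`: transport along an isomorphism.
* `HC_galAct`: for the pencil.
-/

set_option autoImplicit false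
universe u
open CategoryTheory CategoryTheory.Limits AlgebraicGeometry Opposite
open scoped Groth.Agent.Etcore.EtInst
open Groth.Agent.Etcore.EtInst Groth.Agent.Etcore.HQ Groth.Agent.Etcore.HC
open Groth.Agent.Lefpen.H712.HT

namespace Groth.Agent.Lefpen.H720.Mono

section Dict

variable {X Y : Scheme.{u}} (f : X ⟶ Y) (M : Type) [AddCommGroup M]

/-- `H^n(X_T, q⁻¹ M_X) → H^n(X_T, M)`. -/
noncomputable def trc {T : Scheme.{u}} (t : T ⟶ Y) (n : ℕ) :
    HT f (EtCoh.const X M) t n →+ HH (pullback f t) (EtCoh.const _ M) n :=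
  HHmap (EtCore.pullConst (pullback.fst f t) M).hom n

theorem trc_bijective {T : Scheme.{u}} (t : T ⟶ Y) (n : ℕ) : Function.Bijective (trc f M t n) :=
  HHmap_bijective _ n

theorem trc_rs {T T' : Scheme.{u}} {t : T ⟶ Y} {t' : T' ⟶ Y} (φ : T' ⟶ T) (h : φ ≫ t = t') (n : ℕ)
    (x : HT f (EtCoh.const X M) t n) :
    trc f M t' n (rs f _ φ h n x) = HC M (bm f φ h) n (trc f M t n x) := by
  change HHmap (EtCore.pullConst (pullback.fst f t') M).hom n
      (res (EtCoh.const X M) (bm f φ h) (bm_fst f φ h) n x) =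
    hpl (bm f φ h) (EtCore.pullConst (bm f φ h) M).hom n
      (HHmap (EtCore.pullConst (pullback.fst f t) M).hom n x)
  rw [hpl_map, res_apply, ← HHmap_comp, hpl_apply,
    Groth.Agent.Etcore.PullCoh.pullConst_comp (bm f φ h) (pullback.fst f t) (pullback.fst f t')
      (bm_fst f φ h) M]

theorem HC_eq_self_of_rs {T : Scheme.{u}} {t : T ⟶ Y} (φ : T ⟶ T) (h : φ ≫ t = t) (n : ℕ)
    (hx : ∀ x : HT f (EtCoh.const X M) t n, rs f _ φ h n x = x)
    (y : HH (pullback f t) (EtCoh.const _ M) n) : HC M (bm f φ h) n y = y := by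
  obtain ⟨x, rfl⟩ := (trc_bijective f M t n).2 y
  rw [← trc_rs, hx]

end Dict

section Conj

variable {M : Type} [AddCommGroup M]

theorem HC_injective_of_iso {X Y : Scheme.{u}} (j : X ≅ Y) (n : ℕ) :
    Function.Injective (HC M j.hom n) := by
  intro a b hab
  have h1 := congrArg (HC M j.inv n) hab
  rwa [HC_HC M j.inv j.hom (𝟙 Y) j.inv_hom_id, HC_HC M j.inv j.hom (𝟙 Y) j.inv_hom_id,
    HC_id, HC_id] at h1

theorem HC_conj {X Y : Scheme.{u}} (j : X ≅ Y) (a : X ⟶ X) (b : Y ⟶ Y) (h : a ≫ j.hom = j.hom ≫ b)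
    (n : ℕ) (ha : ∀ x, HC M a n x = x) (y : HH Y (EtCoh.const Y M) n) : HC M b n y = y := by
  apply HC_injective_of_iso j n
  rw [HC_HC M j.hom b (j.hom ≫ b) rfl, ← HC_HC M a j.hom (j.hom ≫ b) h, ha]

end Conj

section Gal

variable (k : Type u) [Field k] {X' : Scheme.{u}} (ρ : X' ⟶ CohB1.ProjSpace 1 k)
  (Ω : Type u) [Field Ω] [Algebra (RatFunc k) Ω]

/-- The geometric generic fibre is the base change of the generic fibre. -/
noncomputable def jGen : pullback (pullback.snd ρ (LefMon.genPt k))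
    (Spec.map (CommRingCat.ofHom (algebraMap (RatFunc k) Ω))) ≅ LefMon.geomFibre k ρ Ω :=
  pullbackLeftPullbackSndIso ρ (LefMon.genPt k) (Spec.map (CommRingCat.ofHom (algebraMap (RatFunc k) Ω)))

theorem jGen_comm (σ : Ω ≃ₐ[RatFunc k] Ω)
    (h : Spec.map (CommRingCat.ofHom (σ : Ω →+* Ω)) ≫
      Spec.map (CommRingCat.ofHom (algebraMap (RatFunc k) Ω)) =
      Spec.map (CommRingCat.ofHom (algebraMap (RatFunc k) Ω))) :
    bm (pullback.snd ρ (LefMon.genPt k)) (Spec.map (CommRingCat.ofHom (σ : Ω →+* Ω))) h ≫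
      (jGen k ρ Ω).hom = (jGen k ρ Ω).hom ≫ LefMon.galAct k ρ Ω σ := by
  apply pullback.hom_ext
  · rw [Category.assoc, Category.assoc]
    have e1 : (jGen k ρ Ω).hom ≫ pullback.fst ρ (LefMon.geomGenPt k Ω) =
      pullback.fst _ _ ≫ pullback.fst ρ (LefMon.genPt k) := pullbackLeftPullbackSndIso_hom_fst _ _ _
    have e2 : LefMon.galAct k ρ Ω σ ≫ pullback.fst ρ (LefMon.geomGenPt k Ω) =
      pullback.fst ρ (LefMon.geomGenPt k Ω) ≫ 𝟙 X' := pullback.lift_fst _ _ _
    rw [e2, Category.comp_id, e1, ← Category.assoc, bm_fst]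
  · rw [Category.assoc, Category.assoc]
    have e1 : (jGen k ρ Ω).hom ≫ pullback.snd ρ (LefMon.geomGenPt k Ω) =
      pullback.snd _ _ := pullbackLeftPullbackSndIso_hom_snd _ _ _
    have e2 : LefMon.galAct k ρ Ω σ ≫ pullback.snd ρ (LefMon.geomGenPt k Ω) =
      pullback.snd ρ (LefMon.geomGenPt k Ω) ≫ Spec.map (CommRingCat.ofHom (σ : Ω →+* Ω)) :=
      pullback.lift_snd _ _ _
    rw [e2, e1, ← Category.assoc, e1, bm_snd]

/-- Trivial action on `HT` gives trivial action on the cohomology of the geometric generic fibre. -/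
theorem HC_galAct_eq_self (M : Type) [AddCommGroup M] (σ : Ω ≃ₐ[RatFunc k] Ω)
    (h : Spec.map (CommRingCat.ofHom (σ : Ω →+* Ω)) ≫
      Spec.map (CommRingCat.ofHom (algebraMap (RatFunc k) Ω)) =
      Spec.map (CommRingCat.ofHom (algebraMap (RatFunc k) Ω))) (n : ℕ)
    (hx : ∀ x : HT (pullback.snd ρ (LefMon.genPt k)) (EtCoh.const _ M)
      (Spec.map (CommRingCat.ofHom (algebraMap (RatFunc k) Ω))) n,
      rs (pullback.snd ρ (LefMon.genPt k)) _ (Spec.map (CommRingCat.ofHom (σ : Ω →+* Ω))) h n x = x)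
    (y : HH (LefMon.geomFibre k ρ Ω) (EtCoh.const _ M) n) :
    HC M (LefMon.galAct k ρ Ω σ) n y = y :=
  HC_conj (jGen k ρ Ω) _ _ (jGen_comm k ρ Ω σ h) n (HC_eq_self_of_rs _ M _ h n hx) y

end Gal

/-- The action on cohomology in the statements is `HC`. -/
theorem Hmap_eq_HC (ℓ : ℕ) {X Y : Scheme.{u}} (f : Y ⟶ X) (hf : PreservesFiniteLimits (EtCoh.pull f))
    (i ν : ℕ) (x : EtAdic.Hmod X ℓ i ν) :
    EtAdic.Hmap ℓ f hf i ν x = HC (ZMod (ℓ ^ ν)) f i x := rfl

end Groth.Agent.Lefpen.H720.Mono
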