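import Groth.Agent.Lefpen.H720.QuadCount
import Mathlib.LinearAlgebra.Dimension.Finrank
import Mathlib.LinearAlgebra.Dimension.RankNullity
import Mathlib.LinearAlgebra.FreeModule.Finite.Matrix
import Mathlib.Tactic.NormNum.GCD

/-!
Number of zeros of a quadratic form without singular rational zeros over a finite field, conclusion.
-/

set_option autoImplicit false

open QuadraticMap Module

namespace Groth.Agent.Lefpen.H720.QuadCount2

open Groth.Agent.Lefpen.H720.QuadCount

variable {k : Type*} [Field k] {V : Type*} [AddCommGroup V] [Module k V] [FiniteDimensional k V]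

theorem exists_max (q : QuadraticForm k V) :
    ∃ W : Submodule k V, TS q W ∧ ∀ W' : Submodule k V, TS q W' → finrank k W' ≤ finrank k W := by
  classical
  let P : ℕ → Prop := fun n => ∃ W : Submodule k V, TS q W ∧ finrank k W = n
  have h0 : P 0 := ⟨⊥, fun w hw => by rw [(Submodule.mem_bot k).mp hw]; simp, finrank_bot _ _⟩
  have hb : ∀ n, P n → n ≤ finrank k V := by
    rintro n ⟨W, -, rfl⟩
    exact Submodule.finrank_le W
  obtain ⟨W, hW, hWn⟩ := Nat.findGreatest_spec (P := P) (Nat.zero_le (finrank k V)) h0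
  refine ⟨W, hW, fun W' hW' => ?_⟩
  rw [hWn]
  exact Nat.le_findGreatest (hb _ ⟨W', hW', rfl⟩) ⟨W', hW', rfl⟩

theorem mem_of_max {q : QuadraticForm k V} {W : Submodule k V} (h : TS q W)
    (hmax : ∀ W' : Submodule k V, TS q W' → finrank k W' ≤ finrank k W) :
    ∀ v ∈ perp q W, q v = 0 → v ∈ W := by
  intro v hv hqv
  have hTS : TS q (W ⊔ Submodule.span k {v}) := by
    intro w hw
    obtain ⟨a, ha, b, hb, rfl⟩ := Submodule.mem_sup.mp hw
    obtain ⟨c, rfl⟩ := Submodule.mem_span_singleton.mp hb
    have h3 : q (a + c • v) = q a + q (c • v) + polar q a (c • v) := QuadraticMap.map_add q _ _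
    rw [h3, h a ha, QuadraticMap.map_smul, hqv, polar_smul_right, polar_comm, hv a ha]
    simp
  have hle := hmax _ hTS
  have heq : W = W ⊔ Submodule.span k {v} :=
    Submodule.eq_of_le_of_finrank_le le_sup_left hle
  rw [heq]
  exact Submodule.mem_sup_right (Submodule.mem_span_singleton_self v)

theorem finrank_perp_le [Fintype k] {q : QuadraticForm k V} {W : Submodule k V} (h : TS q W)
    (han : ∀ v ∈ perp q W, q v = 0 → v ∈ W) : finrank k (perp q W) ≤ finrank k W + 2 := by
  by_contra hcon
  push Not at hcon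
  let W₀ : Submodule k (perp q W) := W.comap (perp q W).subtype
  have hW₀ : finrank k W₀ = finrank k W := by
    refine LinearEquiv.finrank_eq (Submodule.comapSubtypeEquivOfLe h.le_perp)
  have hquot : 3 ≤ finrank k (perp q W ⧸ W₀) := by
    have := Submodule.finrank_quotient_add_finrank W₀
    omega
  let b := finBasis k (perp q W ⧸ W₀)
  have hli : LinearIndependent k (fun i : Fin 3 => b (Fin.castLE hquot i)) :=
    b.linearIndependent.comp _ (Fin.castLE_injective hquot)
  choose u hu using fun i : Fin 3 => Submodule.Quotient.mk_surjective W₀ (b (Fin.castLE hquot i))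
  obtain ⟨x, hx, hqx⟩ := exists_zero_three q (fun i => (u i : V))
  have hmem : (∑ i, x i • (u i : V)) ∈ W := by
    refine han _ (sum_mem fun i _ => Submodule.smul_mem _ _ (u i).2) hqx
  apply hx
  funext i
  refine Fintype.linearIndependent_iff.mp hli x ?_ i
  have h1 : (∑ i, x i • u i) ∈ W₀ := by
    rw [Submodule.mem_comap]
    simpa using hmem
  have h2 := (Submodule.Quotient.mk_eq_zero W₀).mpr h1
  rw [← Submodule.mkQ_apply, map_sum] at h2
  rw [← h2]
  refine Finset.sum_congr rfl fun i _ => ?_
  rw [map_smul, Submodule.mkQ_apply, hu]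

variable [Fintype k]

theorem natCard_eq (W : Submodule k V) : Nat.card W = Fintype.card k ^ finrank k W := by
  rw [Module.natCard_eq_pow_finrank (K := k), Nat.card_eq_fintype_card]

variable (k V) in
theorem natCard_eq' : Nat.card V = Fintype.card k ^ finrank k V := by
  rw [Module.natCard_eq_pow_finrank (K := k), Nat.card_eq_fintype_card]

theorem card_formula {q : QuadraticForm k V} (hq : NoSing q) {W : Submodule k V} (h : TS q W)
    (han : ∀ v ∈ perp q W, q v = 0 → v ∈ W) :
    Fintype.card k * Nat.card {v : V // q v = 0} + Fintype.card k ^ finrank k (perp q W) =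
      Fintype.card k ^ (finrank k W + 1) + Fintype.card k ^ (finrank k V) := by
  have := card_mul h han
  rw [natCard_eq, natCard_eq, natCard_eq' k V, Nat.card_eq_fintype_card] at this
  rw [this, pow_succ']

theorem card_odd {q : QuadraticForm k V} (hq : NoSing q) {h : ℕ} (hV : finrank k V = 2 * h + 1) :
    Nat.card {v : V // q v = 0} = Fintype.card k ^ (2 * h) := by
  obtain ⟨W, hW, hmax⟩ := exists_max q
  have han := mem_of_max hW hmax
  have h1 := finrank_perp hq hW
  have h2 := finrank_perp_le hW han
  have h3 := Submodule.finrank_mono hW.le_perp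
  have h4 := card_formula hq hW han
  have hd : finrank k W = h := by omega
  have hp : finrank k (perp q W) = h + 1 := by omega
  rw [hd, hp, hV, add_comm (Fintype.card k ^ (h + 1))] at h4
  have h5 := Nat.add_right_cancel h4
  rw [pow_succ' _ (2 * h)] at h5
  exact Nat.eq_of_mul_eq_mul_left (Fintype.card_pos (α := k)) h5

theorem card_even_split {q : QuadraticForm k V} (hq : NoSing q) {h : ℕ}
    (hV : finrank k V = 2 * h + 2) (hex : ∃ W : Submodule k V, finrank k W = h + 1 ∧ TS q W) :
    (Nat.card {v : V // q v = 0} : ℤ) =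
      (Fintype.card k : ℤ) ^ (2 * h + 1) + (Fintype.card k) ^ (h + 1) - (Fintype.card k) ^ h := by
  obtain ⟨W, hd, hW⟩ := hex
  have h1 := finrank_perp hq hW
  have hmax : ∀ W' : Submodule k V, TS q W' → finrank k W' ≤ finrank k W := by
    intro W' hW'
    have h2 := finrank_perp hq hW'
    have h3 := Submodule.finrank_mono hW'.le_perp
    omega
  have han := mem_of_max hW hmax
  have h4 := card_formula hq hW han
  have hp : finrank k (perp q W) = h + 1 := by omega
  rw [hd, hp, hV] at h4
  have h5 : (Fintype.card k : ℤ) * (Nat.card {v : V // q v = 0} : ℤ) + (Fintype.card k : ℤ) ^ (h + 1) =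
      (Fintype.card k : ℤ) ^ (h + 1 + 1) + (Fintype.card k : ℤ) ^ (2 * h + 2) := by
    exact_mod_cast h4
  have hpos : (Fintype.card k : ℤ) ≠ 0 := by exact_mod_cast Fintype.card_ne_zero
  apply mul_left_cancel₀ hpos
  rw [show 2 * h + 2 = (2 * h + 1) + 1 by omega, pow_succ' _ (2 * h + 1), pow_succ' _ (h + 1)] at h5
  rw [mul_sub, mul_add]
  linear_combination h5 - pow_succ' (Fintype.card k : ℤ) h

theorem card_even_nonsplit {q : QuadraticForm k V} (hq : NoSing q) {h : ℕ}
    (hV : finrank k V = 2 * h + 2) (hex : ¬ ∃ W : Submodule k V, finrank k W = h + 1 ∧ TS q W) :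
    (Nat.card {v : V // q v = 0} : ℤ) =
      (Fintype.card k : ℤ) ^ (2 * h + 1) - (Fintype.card k) ^ (h + 1) + (Fintype.card k) ^ h := by
  obtain ⟨W, hW, hmax⟩ := exists_max q
  have han := mem_of_max hW hmax
  have h1 := finrank_perp hq hW
  have h2 := finrank_perp_le hW han
  have h3 := Submodule.finrank_mono hW.le_perp
  have h4 := card_formula hq hW han
  have hne : finrank k W ≠ h + 1 := fun hh => hex ⟨W, hh, hW⟩
  have hd : finrank k W = h := by omega
  have hp : finrank k (perp q W) = h + 2 := by omega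
  rw [hd, hp, hV] at h4
  have h5 : (Fintype.card k : ℤ) * (Nat.card {v : V // q v = 0} : ℤ) + (Fintype.card k : ℤ) ^ (h + 2) =
      (Fintype.card k : ℤ) ^ (h + 1) + (Fintype.card k : ℤ) ^ (2 * h + 2) := by
    exact_mod_cast h4
  have hpos : (Fintype.card k : ℤ) ≠ 0 := by exact_mod_cast Fintype.card_ne_zero
  apply mul_left_cancel₀ hpos
  rw [mul_add, mul_sub]
  have e1 := pow_succ' (Fintype.card k : ℤ) (2 * h + 1)
  have e2 := pow_succ' (Fintype.card k : ℤ) (h + 1)
  have e3 := pow_succ' (Fintype.card k : ℤ) h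
  rw [show 2 * h + 1 + 1 = 2 * h + 2 by omega] at e1
  rw [show h + 1 + 1 = h + 2 by omega] at e2
  linear_combination h5 + e1 - e2 + e3

end Groth.Agent.Lefpen.H720.QuadCount2
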