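import Groth.Agent.Lefpen.H720.Tangent
import Groth.Agent.Lefpen.H720.HomPt
import Groth.Agent.Lefpen.H720.QuadCount2
import Groth.Agent.Lefpen.H720.QuadPoly

/-!
# A smooth quadric over a finite field has no singular rational zero
-/

set_option autoImplicit false
universe u

open CategoryTheory AlgebraicGeometry Limits TopologicalSpace Opposite

namespace Groth.Agent.Lefpen.H720.NoSingQ

open LefPen Groth.Agent.Lefpen.H720.AffPt Groth.Agent.Lefpen.H720.HomPt Groth.Agent.Sga5
open Groth.Agent.Lefpen.H720.Tangent Groth.Agent.Lefpen.H720.QuadCount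

variable {N : ℕ} {k : Type u} [Field k]

/-- First order Taylor expansion. -/
theorem aeval_dual {σ : Type*} [Fintype σ] (a w : σ → k) (p : MvPolynomial σ k) :
    MvPolynomial.aeval (fun l => (TrivSqZeroExt.inl (a l) + TrivSqZeroExt.inr (w l) : TrivSqZeroExt k k)) p =
      TrivSqZeroExt.inl (MvPolynomial.eval a p) +
        TrivSqZeroExt.inr (∑ l, w l * MvPolynomial.eval a (MvPolynomial.pderiv l p)) := by
  classical
  induction p using MvPolynomial.induction_on with
  | C c =>
    rw [MvPolynomial.algHom_C]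
    apply TrivSqZeroExt.ext
    · simp only [MvPolynomial.eval_C, TrivSqZeroExt.fst_add, TrivSqZeroExt.fst_inl,
        TrivSqZeroExt.fst_inr, add_zero]
      rfl
    · simp only [MvPolynomial.pderiv_C, map_zero, mul_zero, Finset.sum_const_zero, TrivSqZeroExt.inr_zero,
        add_zero, TrivSqZeroExt.snd_inl]
      rfl
  | add p q hp hq =>
    rw [map_add, hp, hq]
    apply TrivSqZeroExt.ext
    · simp
    · simp only [map_add, TrivSqZeroExt.snd_add, TrivSqZeroExt.snd_inl, TrivSqZeroExt.snd_inr, zero_add,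
        mul_add, Finset.sum_add_distrib]
  | mul_X p i hp =>
    rw [map_mul, hp, MvPolynomial.aeval_X]
    apply TrivSqZeroExt.ext
    · simp
    · rw [TrivSqZeroExt.snd_mul]
      simp only [TrivSqZeroExt.fst_add, TrivSqZeroExt.snd_add, TrivSqZeroExt.fst_inl, TrivSqZeroExt.snd_inl,
        TrivSqZeroExt.fst_inr, TrivSqZeroExt.snd_inr, add_zero, zero_add, smul_eq_mul,
        MulOpposite.smul_eq_mul_unop, MulOpposite.unop_op]
      have h2 : ∀ l, w l * MvPolynomial.eval a (MvPolynomial.pderiv l (p * MvPolynomial.X i)) =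
          (if l = i then w l * MvPolynomial.eval a p else 0) +
            (w l * MvPolynomial.eval a (MvPolynomial.pderiv l p)) * a i := by
        intro l
        rw [Derivation.leibniz, MvPolynomial.pderiv_X]
        simp only [Pi.single_apply, smul_eq_mul, map_add, map_mul, MvPolynomial.eval_X]
        rcases eq_or_ne l i with h1 | h1
        · subst h1; simp; ring
        · simp [h1, h1.symm]; ring
      simp only [h2, Finset.sum_add_distrib, Finset.sum_ite_eq', Finset.mem_univ, if_true,
        ← Finset.sum_mul]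
      ring

theorem aeval_dv_dehom (i : Fin (N + 1)) (v : Fin (N + 1) → k) (hv : v i ≠ 0) (w : Fin N → k)
    (p : MvPolynomial (Fin (N + 1)) k) :
    MvPolynomial.aeval (dv (aff i v) w) (ProjChart.dehom N k i p) =
      MvPolynomial.aeval (fun l => (TrivSqZeroExt.inl ((v i)⁻¹ * v l) + TrivSqZeroExt.inr
        ((Fin.insertNth (α := fun _ => k) i 0 w : Fin (N + 1) → k) l) : TrivSqZeroExt k k)) p := by
  have : (MvPolynomial.aeval (dv (aff i v) w) : MvPolynomial (Fin N) k →ₐ[k] E k).toRingHom.comp
      (ProjChart.dehom N k i) =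
      (MvPolynomial.aeval (fun l => (TrivSqZeroExt.inl ((v i)⁻¹ * v l) + TrivSqZeroExt.inr
        ((Fin.insertNth (α := fun _ => k) i 0 w : Fin (N + 1) → k) l) : TrivSqZeroExt k k)) :
        MvPolynomial (Fin (N + 1)) k →ₐ[k] E k).toRingHom := by
    apply MvPolynomial.ringHom_ext
    · intro r
      simp
    · intro l
      obtain rfl | ⟨m, rfl⟩ := Fin.eq_self_or_eq_succAbove i l
      · simp only [RingHom.comp_apply, ProjChart.dehom_X_self, map_one, AlgHom.toRingHom_eq_coe, RingHom.coe_coe,
          MvPolynomial.aeval_X, inv_mul_cancel₀ hv, Fin.insertNth_apply_same, TrivSqZeroExt.inr_zero, add_zero,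
          TrivSqZeroExt.inl_one]
      · simp [aff, dv, div_eq_inv_mul]
  exact congr($(this) p)

theorem noSing [Finite k] (n : ℕ) (Q : Form (n + 1) k 2)
    [SmoothOfRelativeDimension n ((hypIdeal Q).subschemeι ≫ CohB1.ProjSpace.toSpec (n + 1) k)]
    (q : QuadraticForm k (Fin (n + 1 + 1) → k)) (hq : ∀ v, q v = MvPolynomial.eval v Q.1)
    (hpol : ∀ v w, QuadraticMap.polar q v w = ∑ i, w i * MvPolynomial.eval v (MvPolynomial.pderiv i Q.1)) :
    NoSing q := by
  intro v hqv hperp
  by_contra hv
  obtain ⟨i, hi⟩ := Function.ne_iff.mp hv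
  have hi : v i ≠ 0 := hi
  have hle := le_of_smooth n Q i (aff i v) (by
    intro w
    rw [aeval_dv_dehom i v hi w, aeval_dual]
    have e1 : (fun l => (v i)⁻¹ * v l) = (v i)⁻¹ • v := by
      funext l; simp
    rw [e1, ← hpol, ← hq, QuadraticMap.map_smul, hqv, QuadraticMap.polar_smul_left, hperp]
    simp)
  omega

end Groth.Agent.Lefpen.H720.NoSingQ
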