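import Groth.Agent.Lefpen.H720.HomPt
import Groth.Prelude.Def_SgaExt
import Mathlib.FieldTheory.Finite.Basic

/-!
# Rational points of a projective hypersurface over a finite field and zeros of its equation
-/

set_option autoImplicit false
universe u

open CategoryTheory AlgebraicGeometry Limits TopologicalSpace Opposite

namespace Groth.Agent.Lefpen.H720.PtCount

open LefPen Groth.Agent.Lefpen.H720.AffPt Groth.Agent.Lefpen.H720.HomPt Groth.Agent.Sga5

variable {N : ℕ} {k : Type u} [Field k] {d : ℕ} (G : Form N k d)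

/-- Rational points of the hypersurface. -/
abbrev XK : Type u := { g : Spec (CommRingCat.of k) ⟶ (hypIdeal G).subscheme //
  g ≫ ((hypIdeal G).subschemeι ≫ CohB1.ProjSpace.toSpec N k) =
    Spec.map (CommRingCat.ofHom (algebraMap k k)) }

/-- Nonzero zeros of the equation. -/
abbrev Z : Type u := { v : Fin (N + 1) → k // v ≠ 0 ∧ MvPolynomial.eval v G.1 = 0 }

theorem exists_pt (v : Fin (N + 1) → k) (hv : v ≠ 0) (h0 : MvPolynomial.eval v G.1 = 0) :
    ∃ x : XK G, ∀ i, v i ≠ 0 → x.1 ≫ (hypIdeal G).subschemeι = hpt i v := by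
  obtain ⟨i, hi⟩ := Function.ne_iff.mp hv
  have hi : v i ≠ 0 := hi
  obtain ⟨g, hg⟩ := exists_lift_apt G i (aff i v) ((aeval_dehom_eq_zero_iff i v hi G).mpr h0)
  refine ⟨⟨g, ?_⟩, fun j hj => ?_⟩
  · rw [← Category.assoc, hg, apt_toSpec]
  · exact hg.trans (hpt_indep hi hj)

/-- The point attached to a nonzero zero. -/
noncomputable def F (z : Z G) : XK G := (exists_pt G z.1 z.2.1 z.2.2).choose

theorem F_spec (z : Z G) (i : Fin (N + 1)) (hi : z.1 i ≠ 0) :
    (F G z).1 ≫ (hypIdeal G).subschemeι = hpt i z.1 := (exists_pt G z.1 z.2.1 z.2.2).choose_spec i hi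

theorem F_eq_iff (z z' : Z G) : F G z = F G z' ↔ ∃ c : k, c ≠ 0 ∧ z'.1 = c • z.1 := by
  obtain ⟨i, hi⟩ := Function.ne_iff.mp z.2.1
  obtain ⟨j, hj⟩ := Function.ne_iff.mp z'.2.1
  have hi : z.1 i ≠ 0 := hi
  have hj : z'.1 j ≠ 0 := hj
  constructor
  · intro h
    have h1 := F_spec G z i hi
    have h2 := F_spec G z' j hj
    rw [h] at h1
    exact exists_smul_of_hpt_eq hi hj (h1.symm.trans h2)
  · rintro ⟨c, hc, h⟩
    apply Subtype.ext
    rw [← cancel_mono (hypIdeal G).subschemeι, F_spec G z i hi, F_spec G z' j hj]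
    have hj' : (c • z.1) j ≠ 0 := by rw [← h]; exact hj
    rw [h]
    exact (hpt_smul hc hi hj').symm

theorem F_surjective : Function.Surjective (F G) := by
  rintro ⟨g, hg⟩
  have hg' : (g ≫ (hypIdeal G).subschemeι) ≫ CohB1.ProjSpace.toSpec N k =
      Spec.map (CommRingCat.ofHom (algebraMap k k)) := by rw [Category.assoc]; exact hg
  obtain ⟨j, a, ha⟩ := exists_eq_apt _ hg'
  let v : Fin (N + 1) → k := Fin.insertNth (α := fun _ => k) j 1 a
  have hvj : v j = 1 := by simp [v]
  have haff : aff j v = a := by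
    funext l
    simp [aff, v]
  have hvj' : v j ≠ 0 := by rw [hvj]; exact one_ne_zero
  have hv : v ≠ 0 := by
    intro h
    rw [h] at hvj'
    exact hvj' rfl
  have h0 := dehom_eq_zero G j a g ha
  rw [← haff, aeval_dehom_eq_zero_iff j v hvj' G] at h0
  refine ⟨⟨v, hv, h0⟩, ?_⟩
  apply Subtype.ext
  rw [← cancel_mono (hypIdeal G).subschemeι, F_spec G ⟨v, hv, h0⟩ j hvj', ha, hpt, haff]

omit G in
theorem eval_smul {P : MvPolynomial (Fin (N + 1)) k} (hP : P.IsHomogeneous d) (c : k) (v : Fin (N + 1) → k) :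
    MvPolynomial.eval (c • v) P = c ^ d * MvPolynomial.eval v P := by
  classical
  rw [MvPolynomial.eval_eq, MvPolynomial.eval_eq, Finset.mul_sum]
  refine Finset.sum_congr rfl fun s hs => ?_
  rw [hP.degree_eq_sum_deg_support hs]
  simp only [Pi.smul_apply, smul_eq_mul, mul_pow, Finset.prod_mul_distrib]
  rw [Finset.prod_pow_eq_pow_sum]
  ring

theorem card_Z [Finite k] : Nat.card (Z G) = Nat.card (XK G) * (Nat.card k - 1) := by
  classical
  obtain ⟨s, hs⟩ := (F_surjective G).hasRightInverse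
  have hscale : ∀ (c : kˣ) (z : Z G), (c : k) • z.1 ≠ 0 ∧ MvPolynomial.eval ((c : k) • z.1) G.1 = 0 := by
    intro c z
    refine ⟨smul_ne_zero c.ne_zero z.2.1, ?_⟩
    rw [eval_smul G.2, z.2.2, mul_zero]
  let f : XK G × kˣ → Z G := fun p => ⟨(p.2 : k) • (s p.1).1, hscale p.2 (s p.1)⟩
  have hFf : ∀ p, F G (f p) = p.1 := by
    intro p
    have : F G (s p.1) = F G (f p) := (F_eq_iff G _ _).mpr ⟨p.2, p.2.ne_zero, rfl⟩
    rw [← this, hs]
  have hf : Function.Bijective f := by
    constructor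
    · rintro ⟨x, c⟩ ⟨x', c'⟩ h
      have h1 : x = x' := by
        have := congrArg (F G) h
        rw [hFf, hFf] at this
        exact this
      subst h1
      have h2 : (c : k) • (s x).1 = (c' : k) • (s x).1 := congrArg Subtype.val h
      have h3 : (c : k) = c' := smul_left_injective k (s x).2.1 h2
      rw [Units.ext h3]
    · intro z
      have h1 : F G (s (F G z)) = F G z := hs _
      obtain ⟨c, hc, h2⟩ := (F_eq_iff G _ _).mp h1
      exact ⟨⟨F G z, Units.mk0 c hc⟩, Subtype.ext h2.symm⟩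
  rw [← Nat.card_congr (Equiv.ofBijective f hf), Nat.card_prod, Nat.card_units]

/-- Zeros of the equation and rational points. -/
theorem card_zeros [Finite k] (hd : d ≠ 0) : Nat.card {v : Fin (N + 1) → k // MvPolynomial.eval v G.1 = 0} =
    Nat.card (XK G) * (Nat.card k - 1) + 1 := by
  classical
  rw [← card_Z]
  have hG : G.1.IsHomogeneous d := G.2
  have h0 : MvPolynomial.eval (0 : Fin (N + 1) → k) G.1 = 0 := by
    rw [MvPolynomial.eval_zero]
    exact hG.coeff_eq_zero (by simpa using hd.symm)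
  let e : {v : Fin (N + 1) → k // MvPolynomial.eval v G.1 = 0} ≃ Option (Z G) :=
    { toFun := fun v => if h : v.1 = 0 then none else some ⟨v.1, h, v.2⟩
      invFun := fun z => z.elim ⟨0, h0⟩ (fun z => ⟨z.1, z.2.2⟩)
      left_inv := by
        rintro ⟨v, hv⟩
        by_cases h : v = 0
        · subst h; simp
        · simp [h]
      right_inv := by
        rintro (_ | ⟨z, hz⟩)
        · simp
        · simp [hz.1] }
  rw [Nat.card_congr e, Finite.card_option]

theorem pointCount_eq : SgaExt.pointCount ((hypIdeal G).subschemeι ≫ CohB1.ProjSpace.toSpec N k) k =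
    Nat.card (XK G) := rfl

end Groth.Agent.Lefpen.H720.PtCount
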