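import Mathlib.LinearAlgebra.QuadraticForm.Basic
import Mathlib.LinearAlgebra.BilinearForm.Orthogonal
import Mathlib.FieldTheory.ChevalleyWarning
import Mathlib.FieldTheory.Finite.Basic
import Mathlib.Algebra.BigOperators.Fin
import Mathlib.Tactic.Ring
import Mathlib.Tactic.LinearCombination

/-!
Number of zeros of a quadratic form without singular rational zeros over a finite field.
-/

set_option autoImplicit false

open QuadraticMap Module

namespace Groth.Agent.Lefpen.H720.QuadCount

variable {k : Type*} [Field k] [Fintype k] {V : Type*} [AddCommGroup V] [Module k V]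

/-- A quadratic form in three variables over a finite field has a nontrivial zero. -/
theorem exists_zero_three (q : QuadraticForm k V) (u : Fin 3 → V) :
    ∃ x : Fin 3 → k, x ≠ 0 ∧ q (∑ i, x i • u i) = 0 := by
  classical
  obtain ⟨p, hp⟩ := CharP.exists k
  have hprime : p.Prime := (CharP.char_is_prime_or_zero k p).resolve_right
    (CharP.char_ne_zero_of_finite k p)
  let f : MvPolynomial (Fin 3) k :=
    MvPolynomial.C (q (u 0)) * (MvPolynomial.X 0 * MvPolynomial.X 0) +
    MvPolynomial.C (q (u 1)) * (MvPolynomial.X 1 * MvPolynomial.X 1) +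
    MvPolynomial.C (q (u 2)) * (MvPolynomial.X 2 * MvPolynomial.X 2) +
    MvPolynomial.C (polar q (u 0) (u 1)) * (MvPolynomial.X 0 * MvPolynomial.X 1) +
    MvPolynomial.C (polar q (u 0) (u 2)) * (MvPolynomial.X 0 * MvPolynomial.X 2) +
    MvPolynomial.C (polar q (u 1) (u 2)) * (MvPolynomial.X 1 * MvPolynomial.X 2)
  have hf : ∀ x : Fin 3 → k, MvPolynomial.eval x f = q (∑ i, x i • u i) := by
    intro x
    have h : ∀ a b : V, q (a + b) = q a + q b + polar q a b := QuadraticMap.map_add q
    simp only [Fin.sum_univ_three, f, map_add, map_mul, MvPolynomial.eval_C, MvPolynomial.eval_X, h,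
      QuadraticMap.map_smul, polar_add_left, polar_smul_left, polar_smul_right, smul_eq_mul]
    ring
  have hmono : ∀ (a : k) (i j : Fin 3),
      (MvPolynomial.C a * (MvPolynomial.X i * MvPolynomial.X j)).totalDegree ≤ 2 := by
    intro a i j
    refine (MvPolynomial.totalDegree_mul _ _).trans ?_
    refine (add_le_add le_rfl (MvPolynomial.totalDegree_mul _ _)).trans ?_
    simp
  have hdeg : f.totalDegree < Fintype.card (Fin 3) := by
    have : f.totalDegree ≤ 2 := by
      refine (MvPolynomial.totalDegree_add _ _).trans (max_le ?_ (hmono _ _ _))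
      refine (MvPolynomial.totalDegree_add _ _).trans (max_le ?_ (hmono _ _ _))
      refine (MvPolynomial.totalDegree_add _ _).trans (max_le ?_ (hmono _ _ _))
      refine (MvPolynomial.totalDegree_add _ _).trans (max_le ?_ (hmono _ _ _))
      exact (MvPolynomial.totalDegree_add _ _).trans (max_le (hmono _ _ _) (hmono _ _ _))
    simp only [Fintype.card_fin]
    omega
  have hdvd := char_dvd_card_solutions p hdeg
  by_contra hcon
  push Not at hcon
  have hcard : Fintype.card { x : Fin 3 → k // MvPolynomial.eval x f = 0 } = 1 := by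
    rw [Fintype.card_eq_one_iff]
    refine ⟨⟨0, by rw [hf]; simp⟩, ?_⟩
    rintro ⟨y, hy⟩
    rw [hf] at hy
    by_contra hne
    exact hcon y (fun h => hne (Subtype.ext h)) hy
  rw [hcard] at hdvd
  exact hprime.one_lt.ne' (Nat.dvd_one.mp hdvd)

variable [FiniteDimensional k V]

/-- `q` has no nonzero zero which is orthogonal to everything. -/
def NoSing (q : QuadraticForm k V) : Prop :=
  ∀ v : V, q v = 0 → (∀ w, polar q v w = 0) → v = 0

/-- The orthogonal of a subspace for the polar form. -/
def perp (q : QuadraticForm k V) (W : Submodule k V) : Submodule k V where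
  carrier := {v | ∀ w ∈ W, polar q v w = 0}
  add_mem' {a b} ha hb w hw := by rw [polar_add_left, ha w hw, hb w hw, add_zero]
  zero_mem' w _ := polar_zero_left q w
  smul_mem' c a ha w hw := by rw [polar_smul_left, ha w hw, smul_zero]

omit [Fintype k] [FiniteDimensional k V] in
theorem mem_perp {q : QuadraticForm k V} {W : Submodule k V} {v : V} :
    v ∈ perp q W ↔ ∀ w ∈ W, polar q v w = 0 := Iff.rfl

/-- `W` is totally singular. -/
def TS (q : QuadraticForm k V) (W : Submodule k V) : Prop := ∀ w ∈ W, q w = 0

omit [Fintype k] [FiniteDimensional k V] in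
theorem TS.le_perp {q : QuadraticForm k V} {W : Submodule k V} (h : TS q W) : W ≤ perp q W := by
  intro v hv w hw
  rw [polar, h _ (add_mem hv hw), h v hv, h w hw]; simp

omit [Fintype k] in
/-- dimension of the orthogonal of a totally singular subspace. -/
theorem finrank_perp {q : QuadraticForm k V} (hq : NoSing q) {W : Submodule k V} (h : TS q W) :
    finrank k W + finrank k (perp q W) = finrank k V := by
  let B : LinearMap.BilinForm k V := polarBilin q
  have hB : B.IsRefl := by
    intro x y hxy
    change polar q y x = 0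
    rw [polar_comm]; exact hxy
  have h1 := LinearMap.BilinForm.finrank_add_finrank_orthogonal hB W
  have h2 : B.orthogonal W = perp q W := by
    ext v
    rw [LinearMap.BilinForm.mem_orthogonal_iff, mem_perp]
    refine forall₂_congr fun w _ => ?_
    rw [polar_comm]
    exact Iff.rfl
  have h3 : W ⊓ B.orthogonal ⊤ = ⊥ := by
    rw [eq_bot_iff]
    rintro v ⟨hv, hv'⟩
    rw [Submodule.mem_bot]
    refine hq v (h v hv) fun w => ?_
    have := LinearMap.BilinForm.mem_orthogonal_iff.mp hv' w trivial
    rw [polar_comm]
    exact this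
  rw [h2, h3, finrank_bot, add_zero] at h1
  exact h1

/-- The basic count. -/
theorem card_mul {q : QuadraticForm k V} {W : Submodule k V} (h : TS q W)
    (han : ∀ v ∈ perp q W, q v = 0 → v ∈ W) :
    Nat.card k * Nat.card {v : V // q v = 0} + Nat.card (perp q W) =
      Nat.card k * Nat.card W + Nat.card V := by
  classical
  have : Finite V := Module.finite_of_finite k
  have := Fintype.ofFinite V
  -- count pairs `(v, w)` with `q (v + w) = 0`.
  have hW : 0 < Nat.card W := Nat.card_pos
  have e1 : {p : V × W // q (p.1 + p.2) = 0} ≃ {v : V // q v = 0} × W :=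
    { toFun := fun p => (⟨p.1.1 + p.1.2, p.2⟩, p.1.2)
      invFun := fun p => ⟨(p.1.1 - p.2, p.2), by simpa using p.1.2⟩
      left_inv := fun p => by simp
      right_inv := fun p => by simp }
  have e2 : {p : V × W // q (p.1 + p.2) = 0} ≃ Σ v : V, {w : W // q (v + w) = 0} :=
    { toFun := fun p => ⟨p.1.1, p.1.2, p.2⟩
      invFun := fun p => ⟨(p.1, p.2.1), p.2.2⟩
      left_inv := fun p => rfl
      right_inv := fun p => rfl }
  have hc1 : Nat.card {v : V // q v = 0} * Nat.card W = ∑ v : V, Nat.card {w : W // q (v + w) = 0} := by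
    rw [← Nat.card_prod, ← Nat.card_congr e1, Nat.card_congr e2, Nat.card_sigma]
  have hfib : ∀ v : V, Nat.card k * Nat.card {w : W // q (v + w) = 0} =
      if v ∈ perp q W then (if v ∈ W then Nat.card k * Nat.card W else 0) else Nat.card W := by
    intro v
    split_ifs with h1 h2
    · -- `v ∈ W`
      have : ∀ w : W, q (v + w) = 0 := fun w => h _ (add_mem h2 w.2)
      rw [Nat.card_congr (Equiv.subtypeUnivEquiv this)]
    · have : ∀ w : W, q (v + w) ≠ 0 := by
        intro w hw
        have h3 : q (v + w) = q v + q w + polar q v w := QuadraticMap.map_add q _ _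
        rw [h1 w w.2, h w w.2, add_zero, add_zero, hw] at h3
        exact h2 (han v h1 h3.symm)
      have : IsEmpty {w : W // q (v + w) = 0} := ⟨fun w => this w.1 w.2⟩
      rw [Nat.card_of_isEmpty (α := {w : W // q (v + w) = 0}), mul_zero]
    · -- the functional `w ↦ polar q v w` is surjective
      let φ : W →ₗ[k] k := (polarBilin q v).comp W.subtype
      have hφ : ∀ w : W, φ w = polar q v w := fun w => rfl
      have hsurj : Function.Surjective φ := by
        rw [mem_perp] at h1
        push Not at h1
        obtain ⟨w, hw, hne⟩ := h1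
        intro c
        refine ⟨(c * (polar q v w)⁻¹) • ⟨w, hw⟩, ?_⟩
        rw [map_smul, hφ, smul_eq_mul, mul_assoc, inv_mul_cancel₀ hne, mul_one]
      obtain ⟨w₀, hw₀⟩ := hsurj (- q v)
      have e3 : {w : W // q (v + w) = 0} ≃ LinearMap.ker φ :=
        { toFun := fun w => ⟨w.1 - w₀, by
            have h3 : q (v + w.1) = q v + q w.1 + polar q v w.1 := QuadraticMap.map_add q _ _
            rw [w.2, h w.1 w.1.2, add_zero] at h3
            rw [LinearMap.mem_ker, map_sub, hw₀, hφ]
            linear_combination -h3⟩
          invFun := fun w => ⟨w.1 + w₀, by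
            have h3 : q (v + (w.1 + w₀ : W)) = q v + q (w.1 + w₀ : W) + polar q v (w.1 + w₀ : W) :=
              QuadraticMap.map_add q _ _
            have h4 : φ (w.1 + w₀) = - q v := by
              rw [map_add, hw₀, w.2, zero_add]
            rw [hφ] at h4
            rw [h3, h4, h _ (w.1 + w₀ : W).2]; ring⟩
          left_inv := fun w => by simp
          right_inv := fun w => by simp }
      rw [Nat.card_congr e3]
      have h5 := Submodule.card_eq_card_quotient_mul_card (LinearMap.ker φ)
      rw [Nat.card_congr (φ.quotKerEquivOfSurjective hsurj).toEquiv] at h5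
      rw [h5, mul_comm]
  have hsum : Nat.card k * (Nat.card {v : V // q v = 0} * Nat.card W) =
      ∑ v : V, if v ∈ perp q W then (if v ∈ W then Nat.card k * Nat.card W else 0) else Nat.card W := by
    rw [hc1, Finset.mul_sum]
    exact Finset.sum_congr rfl fun v _ => hfib v
  have hs2 : (∑ v : V, if v ∈ perp q W then (if v ∈ W then Nat.card k * Nat.card W else 0) else Nat.card W)
      + Nat.card (perp q W) * Nat.card W = Nat.card k * Nat.card W * Nat.card W + Nat.card V * Nat.card W := by
    have a1 : Nat.card (perp q W) * Nat.card W = ∑ v : V, if v ∈ perp q W then Nat.card W else 0 := by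
      rw [← Finset.sum_filter, Finset.sum_const, smul_eq_mul, Nat.card_eq_fintype_card,
        Fintype.card_subtype]
    have a2 : Nat.card k * Nat.card W * Nat.card W =
        ∑ v : V, if v ∈ W then Nat.card k * Nat.card W else 0 := by
      rw [← Finset.sum_filter, Finset.sum_const, smul_eq_mul, mul_comm, Nat.card_eq_fintype_card (α := W),
        Fintype.card_subtype]
    have a3 : Nat.card V * Nat.card W = ∑ v : V, Nat.card W := by
      rw [Finset.sum_const, smul_eq_mul, Nat.card_eq_fintype_card, Finset.card_univ]
    rw [a1, a2, a3, ← Finset.sum_add_distrib, ← Finset.sum_add_distrib]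
    refine Finset.sum_congr rfl fun v _ => ?_
    by_cases h1 : v ∈ perp q W
    · simp [h1]
    · have h2 : v ∉ W := fun h2 => h1 (h.le_perp h2)
      simp [h1, h2]
  rw [← hsum] at hs2
  apply Nat.eq_of_mul_eq_mul_right hW
  rw [add_mul, add_mul, ← hs2]
  ring

end Groth.Agent.Lefpen.H720.QuadCount
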