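import Groth.Agent.Lefpen.H720.AffPt
import Groth.Agent.Lefpen.H720.DerCount
import Mathlib.RingTheory.DualNumber

/-!
# Tangent vectors of a smooth hypersurface at a rational point, over a finite field
-/

set_option autoImplicit false
universe u

open CategoryTheory AlgebraicGeometry Limits TopologicalSpace Opposite

namespace Groth.Agent.Lefpen.H720.Tangent

open LefPen Groth.Agent.Lefpen.H720.AffPt Groth.Agent.Sga5

variable {N : ℕ} {k : Type u} [Field k] {d : ℕ}

/-- The dual numbers. -/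
abbrev E (k : Type u) [Field k] : Type u := TrivSqZeroExt k k

/-- The point with coordinates `a + ε w`. -/
def dv (a w : Fin N → k) : Fin N → E k := fun l => TrivSqZeroExt.inl (a l) + TrivSqZeroExt.inr (w l)

theorem fst_dv (a w : Fin N → k) (l : Fin N) : TrivSqZeroExt.fstHom k k k (dv a w l) = a l := by
  simp [dv]

instance : IsLocalRing (E k) := inferInstanceAs (IsLocalRing (DualNumber k))

theorem closedPoint_eq :
    Spec.map (CommRingCat.ofHom (TrivSqZeroExt.fstHom k k k).toRingHom) (IsLocalRing.closedPoint k) =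
      IsLocalRing.closedPoint (E k) := by
  have : IsLocalHom (TrivSqZeroExt.fstHom k k k).toRingHom :=
    IsLocalHom.of_surjective _ (fun x => ⟨TrivSqZeroExt.inl x, by simp⟩)
  exact IsLocalRing.comap_closedPoint (TrivSqZeroExt.fstHom k k k).toRingHom

/-- Pulling back functions along `Spec B → Spec A → X`. -/
theorem comp_appLE_apply {A B : Type u} [CommRing A] [CommRing B] (ρ : A →+* B) {X : Scheme.{u}}
    (t : Spec (CommRingCat.of A) ⟶ X) (V : X.Opens) (h : ⊤ ≤ t ⁻¹ᵁ V)
    (h' : ⊤ ≤ (Spec.map (CommRingCat.ofHom ρ) ≫ t) ⁻¹ᵁ V) (c : Γ(X, V)) :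
    (Scheme.ΓSpecIso (CommRingCat.of B)).hom.hom
      (((Spec.map (CommRingCat.ofHom ρ) ≫ t).appLE V ⊤ h').hom c) =
      ρ ((Scheme.ΓSpecIso (CommRingCat.of A)).hom.hom ((t.appLE V ⊤ h).hom c)) := by
  have h1 := Scheme.Hom.appLE_comp_appLE (Spec.map (CommRingCat.ofHom ρ)) t V ⊤ ⊤ h le_top
  have h2 := congr((Scheme.ΓSpecIso (CommRingCat.of B)).hom.hom ($(h1).hom c))
  refine h2.symm.trans ?_
  rw [CommRingCat.hom_comp, RingHom.comp_apply]
  have h3 := Scheme.ΓSpecIso_naturality (CommRingCat.ofHom ρ)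
  have h4 := congr($(h3).hom ((t.appLE V ⊤ h).hom c))
  refine Eq.trans ?_ h4
  rw [CommRingCat.hom_comp, RingHom.comp_apply]
  congr 1

/-- A morphism from an affine scheme into an affine open is determined by its effect on functions. -/
theorem eq_of_appLE_eq {A : Type u} [CommRing A] {X : Scheme.{u}}
    (t t' : Spec (CommRingCat.of A) ⟶ X) (V : X.Opens) (hV : IsAffineOpen V) (h : ⊤ ≤ t ⁻¹ᵁ V)
    (h' : ⊤ ≤ t' ⁻¹ᵁ V) (heq : t.appLE V ⊤ h = t'.appLE V ⊤ h') : t = t' := by
  have h1 := hV.SpecMap_appLE_fromSpec t (isAffineOpen_top _) h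
  have h2 := hV.SpecMap_appLE_fromSpec t' (isAffineOpen_top _) h'
  rw [heq, h2, IsAffineOpen.fromSpec_top, cancel_epi] at h1
  exact h1.symm

theorem le_of_smooth [Finite k] (n : ℕ) (G : Form N k d)
    [hsm : SmoothOfRelativeDimension n ((hypIdeal G).subschemeι ≫ CohB1.ProjSpace.toSpec N k)]
    (j : Fin (N + 1)) (a : Fin N → k)
    (h : ∀ w : Fin N → k, MvPolynomial.aeval (dv a w) (ProjChart.dehom N k j G.1) = 0) : N ≤ n := by
  classical
  set f := (hypIdeal G).subschemeι ≫ CohB1.ProjSpace.toSpec N k with hf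
  choose τ hτ using fun w => exists_lift_apt G j (dv a w) (h w)
  let π := TrivSqZeroExt.fstHom k k k
  let x : Spec (CommRingCat.of k) ⟶ (hypIdeal G).subscheme :=
    Spec.map (CommRingCat.ofHom π.toRingHom) ≫ τ 0
  have hx : ∀ w, Spec.map (CommRingCat.ofHom π.toRingHom) ≫ τ w = x := by
    intro w
    rw [← cancel_mono (hypIdeal G).subschemeι, Category.assoc, Category.assoc, hτ, hτ, map_apt, map_apt]
    congr 1
  obtain ⟨U, hU, V, hV, hpt, e, hstd⟩ :=
    hsm.exists_isStandardSmoothOfRelativeDimension (x (IsLocalRing.closedPoint k))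
  have hpre : ∀ w, (⊤ : (Spec (CommRingCat.of (E k))).Opens) ≤ (τ w) ⁻¹ᵁ V := by
    intro w
    have h1 : IsLocalRing.closedPoint (E k) ∈ (τ w) ⁻¹ᵁ V := by
      rw [← closedPoint_eq]
      change (Spec.map (CommRingCat.ofHom π.toRingHom) ≫ τ w) (IsLocalRing.closedPoint k) ∈ V
      rw [hx w]
      exact hpt
    have h2 := (IsLocalRing.closedPoint_mem_iff _).mp h1
    exact h2.ge
  have hprex : (⊤ : (Spec (CommRingCat.of k)).Opens) ≤ x ⁻¹ᵁ V := by
    intro y _
    rw [Subsingleton.elim y (IsLocalRing.closedPoint k)]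
    exact hpt
  let ψ : (Fin N → k) → Γ((hypIdeal G).subscheme, V) →+* E k := fun w =>
    (Scheme.ΓSpecIso (CommRingCat.of (E k))).hom.hom.comp ((τ w).appLE V ⊤ (hpre w)).hom
  let φ : Γ((hypIdeal G).subscheme, V) →+* k :=
    (Scheme.ΓSpecIso (CommRingCat.of k)).hom.hom.comp (x.appLE V ⊤ hprex).hom
  have hψφ : ∀ w c, (ψ w c).fst = φ c := by
    intro w c
    have h0 : ⊤ ≤ (Spec.map (CommRingCat.ofHom π.toRingHom) ≫ τ w) ⁻¹ᵁ V := by
      rw [hx w]; exact hprex
    have h1 := comp_appLE_apply π.toRingHom (τ w) V (hpre w) h0 c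
    have h2 : (Spec.map (CommRingCat.ofHom π.toRingHom) ≫ τ w).appLE V ⊤ h0 = x.appLE V ⊤ hprex := by
      congr 1
      exact hx w
    rw [h2] at h1
    exact h1.symm
  have hU' : U = ⊤ := by
    rw [eq_top_iff]
    intro y _
    have h1 : f (x (IsLocalRing.closedPoint k)) ∈ U := e hpt
    rwa [Subsingleton.elim y (f (x (IsLocalRing.closedPoint k)))]
  have hψα : ∀ w r, (ψ w ((f.appLE U V e).hom r)).snd = 0 := by
    intro w r
    have hτf : τ w ≫ f = Spec.map (CommRingCat.ofHom (algebraMap k (E k))) := by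
      rw [hf, ← Category.assoc, hτ, apt_toSpec]
    have h1 := Scheme.Hom.appLE_comp_appLE (τ w) f U V ⊤ e (hpre w)
    have h2 := congr((Scheme.ΓSpecIso (CommRingCat.of (E k))).hom.hom ($(h1).hom r))
    have h3 : ψ w ((f.appLE U V e).hom r) = (Scheme.ΓSpecIso (CommRingCat.of (E k))).hom.hom
        (((f.appLE U V e) ≫ (τ w).appLE V ⊤ (hpre w)).hom r) := rfl
    rw [h3, h2]
    have h4 : ⊤ ≤ (Spec.map (CommRingCat.ofHom (algebraMap k (E k))) ≫ 𝟙 _) ⁻¹ᵁ U := by
      rw [hU']; exact le_top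
    have h5 := comp_appLE_apply (algebraMap k (E k)) (𝟙 (Spec (CommRingCat.of k))) U
      (by rw [hU']; exact le_top) h4 r
    have h6 : (τ w ≫ f).appLE U ⊤ (le_trans (hpre w) ((τ w).preimage_mono e)) =
        (Spec.map (CommRingCat.ofHom (algebraMap k (E k))) ≫ 𝟙 _).appLE U ⊤ h4 := by
      congr 1
    rw [h6, h5]
    rfl
  have hψinj : Function.Injective ψ := by
    intro w w' hww
    have h1 : (τ w).appLE V ⊤ (hpre w) = (τ w').appLE V ⊤ (hpre w') := by
      ext c
      have h2 := congr($(hww) c)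
      have h5 : Function.Injective (Scheme.ΓSpecIso (CommRingCat.of (E k))).hom.hom :=
        ((ConcreteCategory.isIso_iff_bijective (Scheme.ΓSpecIso (CommRingCat.of (E k))).hom).mp inferInstance).1
      exact h5 h2
    have h2 : τ w = τ w' := eq_of_appLE_eq _ _ V hV _ _ h1
    have h3 : apt (k := k) j (dv a w) = apt (k := k) j (dv a w') := by
      rw [← hτ, ← hτ, h2]
    have h4 := apt_injective j h3
    funext l
    have h5 := congrArg TrivSqZeroExt.snd (congrFun h4 l)
    simpa [dv] using h5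
  have hcard := DerCount.card_le n (f.appLE U V e).hom hstd φ (T := Fin N → k)
    (fun w c => (ψ w c).snd) (fun w b c => by simp) (fun w b c => by
      rw [map_mul, TrivSqZeroExt.snd_mul, hψφ, hψφ]
      exact congrArg₂ (· + ·) rfl (mul_comm _ _)) hψα (by
      intro w w' hww
      apply hψinj
      apply RingHom.ext
      intro c
      apply TrivSqZeroExt.ext
      · rw [hψφ, hψφ]
      · exact congrFun hww c)
  rw [Nat.card_fun, Nat.card_eq_fintype_card (α := Fin N), Fintype.card_fin] at hcard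
  exact (Nat.pow_le_pow_iff_right (Finite.one_lt_card (α := k))).mp hcard

end Groth.Agent.Lefpen.H720.Tangent
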